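import Cfsg.Agent.Lib.SpComm.Basic

/-!
Factorisations of diagonal sign matrices through elements without eigenvalue pairs of product one.
-/

set_option autoImplicit false

namespace CfsgLib.SpComm

open Matrix Polynomial

variable {F : Type*} [Field F] {ι : Type*} [Fintype ι] [DecidableEq ι]

/-- Some certificate exists. -/
def AdmGood (A : Matrix ι ι F) : Prop := ∃ P Q : F[X], Good P ∧ Good Q ∧ Adm A P Q

theorem adm_empty [IsEmpty ι] (A : Matrix ι ι F) (P Q : F[X]) : Adm A P Q :=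
  adm_inv 1 1 1 (Subsingleton.elim _ _) (Subsingleton.elim _ _) (Subsingleton.elim _ _) (by simp)

theorem reverse_quad (γ : F) : (X ^ 2 - C γ).reverse = 1 - C γ * X ^ 2 := by
  rw [Polynomial.reverse, natDegree_X_pow_sub_C,
    show (X ^ 2 - C γ : F[X]) = C 1 * X ^ 2 + C (-γ) * X ^ 0 by rw [map_one, map_neg]; ring, reflect_add,
    reflect_C_mul_X_pow, reflect_C_mul_X_pow, revAt_le le_rfl, revAt_le (Nat.zero_le 2), map_one, map_neg]
  simp only [Nat.sub_self, Nat.sub_zero]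
  ring

theorem reverse_lin (c : F) : (X - C c).reverse = 1 - C c * X := by
  rw [Polynomial.reverse, natDegree_X_sub_C,
    show (X - C c : F[X]) = C 1 * X ^ 1 + C (-c) * X ^ 0 by rw [map_one, map_neg]; ring, reflect_add,
    reflect_C_mul_X_pow, reflect_C_mul_X_pow, revAt_le le_rfl, revAt_le (Nat.zero_le 1), map_one, map_neg]
  simp only [Nat.sub_self, Nat.sub_zero]
  ring

theorem coprime_of_bezout {a b P Q : F[X]} {u : F} (hu : u ≠ 0) (h : a * P + b * Q = C u) : IsCoprime P Q :=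
  ⟨C u⁻¹ * a, C u⁻¹ * b, by rw [mul_assoc, mul_assoc, ← mul_add, h, ← map_mul, inv_mul_cancel₀ hu, map_one]⟩

theorem good_lin {c : F} (hc : c * c ≠ 1) : Good (X - C c) := by
  refine coprime_of_bezout (a := C c) (b := 1) (u := 1 - c * c) (sub_ne_zero.2 (Ne.symm hc)) ?_
  rw [reverse_lin, map_sub, map_one, map_mul]
  ring

theorem good_quad {γ : F} (hγ : γ * γ ≠ 1) : Good (X ^ 2 - C γ) := by
  refine coprime_of_bezout (a := C γ) (b := 1) (u := 1 - γ * γ) (sub_ne_zero.2 (Ne.symm hγ)) ?_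
  rw [reverse_quad, map_sub, map_one, map_mul]
  ring

theorem good_quad_lin {γ c : F} (hγ : γ * γ ≠ 1) (hc : c * c ≠ 1) (h : γ * (c * c) ≠ 1) :
    Good ((X ^ 2 - C γ) * (X - C c)) := by
  refine (good_quad hγ).mul (good_lin hc) ?_ ?_
  · refine coprime_of_bezout (a := C (c * c)) (b := 1 + C c * X) (u := 1 - γ * (c * c))
      (sub_ne_zero.2 (Ne.symm h)) ?_
    simp only [reverse_lin, map_sub, map_one, map_mul]
    ring
  · refine coprime_of_bezout (a := C γ * (X + C c)) (b := 1) (u := 1 - γ * (c * c))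
      (sub_ne_zero.2 (Ne.symm h)) ?_
    simp only [reverse_quad, map_sub, map_one, map_mul]
    ring

/-- Scalars for the identity. -/
theorem adm_one_scalar (ι : Type*) [Fintype ι] [DecidableEq ι] {c : F} (hc : c ≠ 0) :
    Adm (1 : Matrix ι ι F) (X - C c) (X - C c⁻¹) := by
  let s : GL ι F := Units.map (algebraMap F (Matrix ι ι F)).toMonoidHom (Units.mk0 c hc)
  refine adm_inv s s⁻¹ 1 (by rw [← Units.val_mul, mul_inv_cancel, Units.val_one]) ?_ ?_ (by simp)
  · show aeval (algebraMap F (Matrix ι ι F) c) (X - C c) = 0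
    simp
  · show aeval (algebraMap F (Matrix ι ι F) ((Units.mk0 c hc)⁻¹ : Fˣ)) (X - C c⁻¹) = 0
    simp

/-- An even number of `-1`, from a two by two piece. -/
theorem adm_neg_even {P Q : F[X]} (h : Adm (-1 : Matrix (Fin 2) (Fin 2) F) P Q) :
    ∀ k : ℕ, Adm (-1 : Matrix (Fin (2 * k)) (Fin (2 * k)) F) P Q := by
  intro k
  induction k with
  | zero =>
    have : IsEmpty (Fin (2 * 0)) := Fin.isEmpty'
    exact adm_empty _ _ _
  | succ k ih =>
    have h1 := (ih.sum h).reindex (finSumFinEquiv : Fin (2 * k) ⊕ Fin 2 ≃ Fin (2 * (k + 1)))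
    have e : fromBlocks (-1 : Matrix (Fin (2 * k)) (Fin (2 * k)) F) 0 0 (-1 : Matrix (Fin 2) (Fin 2) F) = -1 := by
      rw [← fromBlocks_one (l := Fin (2 * k)) (m := Fin 2), fromBlocks_neg, neg_zero, neg_zero]
    rw [e, ← Matrix.coe_reindexAlgEquiv F F] at h1
    rwa [map_neg, map_one] at h1

theorem adm_neg_two {γ : F} (hγ : γ ≠ 0) :
    Adm (-1 : Matrix (Fin 2) (Fin 2) F) (X ^ 2 - C γ) (X ^ 2 - C γ⁻¹) := by
  let s : GL (Fin 2) F := ⟨!![0, γ; 1, 0], !![0, 1; γ⁻¹, 0],
    by ext i j; fin_cases i <;> fin_cases j <;> simp [hγ],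
    by ext i j; fin_cases i <;> fin_cases j <;> simp [hγ]⟩
  let z : GL (Fin 2) F := ⟨!![1, 0; 0, -1], !![1, 0; 0, -1],
    by ext i j; fin_cases i <;> fin_cases j <;> simp,
    by ext i j; fin_cases i <;> fin_cases j <;> simp⟩
  refine adm_inv s (-s⁻¹) z (by rw [Units.val_neg, mul_neg, ← Units.val_mul, mul_inv_cancel, Units.val_one]) ?_ ?_ ?_
  · show aeval !![0, γ; 1, 0] (X ^ 2 - C γ) = 0
    ext i j
    fin_cases i <;> fin_cases j <;> simp [sq, Algebra.algebraMap_eq_smul_one]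
  · show aeval (-!![0, 1; γ⁻¹, 0]) (X ^ 2 - C γ⁻¹) = 0
    ext i j
    fin_cases i <;> fin_cases j <;> simp [sq, Algebra.algebraMap_eq_smul_one]
  · refine Units.ext ?_
    show !![1, 0; 0, -1] * !![0, 1; γ⁻¹, 0] = -!![0, 1; γ⁻¹, 0] * !![1, 0; 0, -1]
    ext i j
    fin_cases i <;> fin_cases j <;> simp

/-- The diagonal sign matrix with `2 k` negative and `a` positive entries. -/
def sgn (k a : ℕ) : Matrix (Fin (2 * k) ⊕ Fin a) (Fin (2 * k) ⊕ Fin a) F := fromBlocks (-1) 0 0 1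

theorem admGood_sgn_big (hF : ∃ γ c : F, γ ≠ 0 ∧ c ≠ 0 ∧ γ * γ ≠ 1 ∧ c * c ≠ 1 ∧ γ * (c * c) ≠ 1) (k a : ℕ) :
    AdmGood (sgn (F := F) k a) := by
  obtain ⟨γ, c, hγ, hc, h1, h2, h3⟩ := hF
  refine ⟨_, _, good_quad_lin h1 h2 h3, good_quad_lin (γ := γ⁻¹) (c := c⁻¹) ?_ ?_ ?_,
    ((adm_neg_even (adm_neg_two hγ) k).mono (dvd_mul_right _ _) (dvd_mul_right _ _)).sum
      ((adm_one_scalar (Fin a) hc).mono (dvd_mul_left _ _) (dvd_mul_left _ _))⟩
  · rw [← mul_inv]; exact inv_ne_one.2 h1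
  · rw [← mul_inv]; exact inv_ne_one.2 h2
  · rw [← mul_inv, ← mul_inv]; exact inv_ne_one.2 h3

theorem exists_gamma [Finite F] (h5 : 5 ≤ Nat.card F) (h2 : (2 : F) ≠ 0) :
    ∃ γ c : F, γ ≠ 0 ∧ c ≠ 0 ∧ γ * γ ≠ 1 ∧ c * c ≠ 1 ∧ γ * (c * c) ≠ 1 := by
  classical
  haveI := Fintype.ofFinite F
  have hc : ringChar F ≠ 2 := fun h => h2 (by
    have := ringChar.Nat.cast_ringChar (R := F)
    rw [h] at this
    exact_mod_cast this)
  obtain ⟨g, hg⟩ := FiniteField.exists_nonsquare hc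
  have hg0 : g ≠ 0 := fun e => hg (e ▸ IsSquare.zero)
  obtain ⟨c, hc0, hc1⟩ : ∃ c : F, c ≠ 0 ∧ c * c ≠ 1 := by
    by_contra hn
    push Not at hn
    have hs : (Finset.univ : Finset F) ⊆ {0, 1, -1} := fun a _ => by
      by_cases h0 : a = 0
      · simp [h0]
      rcases mul_self_eq_one_iff.1 (hn a h0) with h | h <;> simp [h]
    have h1 := (Finset.card_le_card hs).trans Finset.card_le_three
    rw [Finset.card_univ, ← Nat.card_eq_fintype_card] at h1
    omega
  have hns : ∀ γ : F, ¬IsSquare γ → γ * γ ≠ 1 → ∃ γ c : F, γ ≠ 0 ∧ c ≠ 0 ∧ γ * γ ≠ 1 ∧ c * c ≠ 1 ∧ γ * (c * c) ≠ 1 := by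
    intro γ hγ h1
    refine ⟨γ, c, fun e => hγ (e ▸ IsSquare.zero), hc0, h1, hc1, fun e => hγ ⟨c⁻¹, ?_⟩⟩
    field_simp
    linear_combination e
  by_cases h1 : g * g = 1
  · refine hns (g * (c * c)) (fun ⟨w, hw⟩ => hg ⟨w / c, by field_simp; linear_combination hw⟩) fun e => ?_
    have e' : (c * c) * (c * c) = 1 := by linear_combination e - (c * c) * (c * c) * h1
    rcases mul_self_eq_one_iff.1 e' with h | h
    · exact hc1 h
    · rcases mul_self_eq_one_iff.1 h1 with hg1 | hg1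
      · exact hg ⟨1, by rw [hg1, mul_one]⟩
      · exact hg ⟨c, by rw [hg1, h]⟩
  · exact hns g hg h1

theorem exists_singer (F : Type*) [Field F] [Finite F] {a : ℕ} (ha : 2 < (Nat.card F - 1) * Nat.card F ^ (a - 1))
    (ha0 : 0 < a) : ∃ (P : F[X]) (s : GL (Fin a) F), Irreducible P ∧ P.natDegree = a ∧ Good P ∧
      aeval (s : Matrix (Fin a) (Fin a) F) P = 0 := by
  classical
  obtain ⟨p, hp⟩ := CharP.exists F
  have : Fact p.Prime := ⟨CharP.char_is_prime F p⟩
  have : NeZero a := ⟨ha0.ne'⟩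
  let K := FiniteField.Extension F p a
  have : Finite K := Module.finite_of_finite F
  obtain ⟨g, hg⟩ := IsCyclic.exists_generator (α := Kˣ)
  set ζ : K := (g : K)
  have hcard : Nat.card K = Nat.card F ^ a := FiniteField.natCard_extension F p a
  have hord : orderOf g = Nat.card F ^ a - 1 := by
    rw [orderOf_eq_card_of_forall_mem_zpowers hg, Nat.card_units, hcard]
  set P := minpoly F ζ
  have hint : IsIntegral F ζ := Algebra.IsIntegral.isIntegral _
  have hirr : Irreducible P := minpoly.irreducible hint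
  have htop : IntermediateField.adjoin F {ζ} = ⊤ := by
    refine eq_top_iff.2 fun x _ => ?_
    by_cases hx : x = 0
    · rw [hx]; exact zero_mem _
    obtain ⟨n, hn⟩ := Subgroup.mem_zpowers_iff.1 (hg (Units.mk0 x hx))
    have : x = ζ ^ n := by rw [← Units.val_zpow_eq_zpow_val, hn]; rfl
    rw [this]
    exact zpow_mem (IntermediateField.mem_adjoin_simple_self F ζ) n
  have hdeg : P.natDegree = a := by
    rw [← IntermediateField.adjoin.finrank hint, htop, IntermediateField.finrank_top',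
      FiniteField.finrank_extension]
  let b : Module.Basis (Fin a) F K := Module.finBasisOfFinrankEq F K (FiniteField.finrank_extension F p a)
  let s : GL (Fin a) F := Units.map (Algebra.leftMulMatrix b).toMonoidHom g
  refine ⟨P, s, hirr, hdeg, hirr.coprime_iff_not_dvd.2 fun hdvd => ?_, ?_⟩
  · have h0 : aeval ζ P.reverse = 0 := by
      obtain ⟨c, hc⟩ := hdvd
      rw [hc, map_mul, minpoly.aeval, zero_mul]
    rw [Polynomial.reverse, show ζ = ((g : Kˣ) : K) from rfl, aeval_reflect g _ P le_rfl, mul_eq_zero] at h0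
    have h1 : aeval ((g⁻¹ : Kˣ) : K) P = 0 := h0.resolve_left (pow_ne_zero _ g.ne_zero)
    have hmin : minpoly F ((g⁻¹ : Kˣ) : K) = minpoly F ζ :=
      (minpoly.eq_of_irreducible_of_monic hirr h1 (minpoly.monic hint)).symm
    have : IsGalois F K := inferInstance
    obtain ⟨σ, hσ⟩ := Normal.minpoly_eq_iff_mem_orbit (F := F) (E := K) |>.1 hmin
    obtain ⟨i, hi⟩ := FiniteField.exists_forall_apply_eq_pow F p K σ
    have hi' := hi ζ
    rw [show σ ζ = ((g⁻¹ : Kˣ) : K) from hσ] at hi'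
    have e1 : g⁻¹ = g ^ (Nat.card F ^ i) := Units.ext (by rw [hi', Units.val_pow_eq_pow_val])
    have hper : ∀ j : ℕ, g ^ (Nat.card F ^ (a * j)) = g := by
      intro j
      induction j with
      | zero => simp
      | succ j ih =>
        rw [Nat.mul_succ, pow_add, pow_mul, ih]
        have hle : 1 ≤ Nat.card F ^ a := Nat.one_le_pow _ _ Nat.card_pos
        rw [← Nat.sub_add_cancel hle, pow_succ, ← hord, pow_orderOf_eq_one, one_mul]
    rw [← Nat.mod_add_div i a, pow_add, mul_comm, pow_mul, hper] at e1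
    have e2 : g ^ (Nat.card F ^ (i % a) + 1) = 1 := by rw [pow_succ, ← e1, inv_mul_cancel]
    have h3 := Nat.le_of_dvd (Nat.succ_pos _) (orderOf_dvd_of_pow_eq_one e2)
    rw [hord] at h3
    have h4 : Nat.card F ^ (i % a) ≤ Nat.card F ^ (a - 1) :=
      Nat.pow_le_pow_right Nat.card_pos (by have := Nat.mod_lt i ha0; omega)
    have h5 : Nat.card F ^ a = (Nat.card F - 1) * Nat.card F ^ (a - 1) + Nat.card F ^ (a - 1) := by
      conv_lhs => rw [show a = (a - 1) + 1 by omega, pow_succ']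
      rw [← Nat.succ_mul]
      congr 1
      have := Nat.card_pos (α := F)
      omega
    omega
  · show aeval (Algebra.leftMulMatrix b ζ) P = 0
    rw [aeval_algHom_apply, minpoly.aeval, map_zero]

theorem adm_one_singer {a : ℕ} {P : F[X]} {s : GL (Fin a) F} (hs : aeval (s : Matrix (Fin a) (Fin a) F) P = 0) :
    Adm (1 : Matrix (Fin a) (Fin a) F) P P.reverse := by
  refine adm_inv s s⁻¹ 1 (by rw [← Units.val_mul, mul_inv_cancel, Units.val_one]) hs ?_ (by simp)
  rw [Polynomial.reverse, aeval_reflect s⁻¹ _ P le_rfl, inv_inv, hs, mul_zero]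

theorem admGood_one [Finite F] {a : ℕ} (ha : 2 < (Nat.card F - 1) * Nat.card F ^ (a - 1)) (ha0 : 0 < a) :
    AdmGood (1 : Matrix (Fin a) (Fin a) F) := by
  obtain ⟨P, s, hirr, -, hP, hs⟩ := exists_singer F ha ha0
  refine ⟨P, P.reverse, hP, ?_, adm_one_singer hs⟩
  by_cases h0 : P.coeff 0 = 0
  · refine absurd hP fun hP' => ?_
    obtain ⟨r, hr⟩ := X_dvd_iff.2 h0
    have hu : IsUnit r := (hirr.isUnit_or_isUnit hr).resolve_left not_isUnit_X
    obtain ⟨u, hu0, rfl⟩ := Polynomial.isUnit_iff.1 hu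
    have hz : aeval (s : Matrix (Fin a) (Fin a) F) (X * C u) = 0 := hr ▸ hs
    rw [map_mul, aeval_X, aeval_C] at hz
    have : Nonempty (Fin a) := ⟨⟨0, ha0⟩⟩
    have h1 : ((s⁻¹ : GL (Fin a) F) : Matrix (Fin a) (Fin a) F) * (s * algebraMap F _ u) = 0 := by
      rw [hz, mul_zero]
    rw [← mul_assoc, ← Units.val_mul, inv_mul_cancel, Units.val_one, one_mul, map_eq_zero] at h1
    exact hu0.ne_zero h1
  · show IsCoprime P.reverse P.reverse.reverse
    have hd : P.reverse.natDegree = P.natDegree := by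
      rw [Polynomial.reverse_natDegree, natTrailingDegree_eq_zero.2 (Or.inr h0), Nat.sub_zero]
    show IsCoprime P.reverse (reflect P.reverse.natDegree P.reverse)
    rw [hd, Polynomial.reverse, reflect_reflect]
    exact hP.symm

end CfsgLib.SpComm
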