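import Cfsg.Agent.Lib.SpComm.Basic

/-!
Every isometry `T` of a symplectic space has a Lagrangian `L`, stable under `T + T⁻¹`, on which the elements
moved inside `L` split into fixed and negated vectors.
-/

set_option autoImplicit false
set_option linter.unusedSectionVars false

namespace CfsgLib.SpComm

open Polynomial Module

variable {F : Type*} [Field F] {V : Type*} [AddCommGroup V] [Module F V] [FiniteDimensional F V]

/-- A symplectic space with an isometry. -/
structure Iso (B : LinearMap.BilinForm F V) (T : V ≃ₗ[F] V) : Prop where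
  alt : ∀ v, B v v = 0
  sep : ∀ v, (∀ w, B v w = 0) → v = 0
  iso : ∀ v w, B (T v) (T w) = B v w

/-- `v` is a sum of a fixed and a negated vector. -/
def Semi (T : V ≃ₗ[F] V) (v : V) : Prop := ∃ a b : V, T a = a ∧ T b = -b ∧ v = a + b

/-- Non-degenerate on the subspace. -/
def ND (B : LinearMap.BilinForm F V) (U : Submodule F V) : Prop := ∀ u ∈ U, (∀ v ∈ U, B u v = 0) → u = 0

/-- Invariant subspace. -/
def Inv (T : V ≃ₗ[F] V) (U : Submodule F V) : Prop := ∀ u ∈ U, T u ∈ U

/-- What is wanted on `U`. -/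
structure OutL (B : LinearMap.BilinForm F V) (T : V ≃ₗ[F] V) (U L : Submodule F V) : Prop where
  le : L ≤ U
  isot : ∀ a ∈ L, ∀ b ∈ L, B a b = 0
  max : ∀ u ∈ U, (∀ l ∈ L, B l u = 0) → u ∈ L
  hinv : ∀ l ∈ L, T l + T.symm l ∈ L
  semi : ∀ l ∈ L, T l ∈ L → Semi T l
  full : (∀ l ∈ L, T l ∈ L) → ∀ u ∈ U, Semi T u

variable {B : LinearMap.BilinForm F V} {T : V ≃ₗ[F] V}

theorem semi_eigen {ε : F} (hε : ε = 1 ∨ ε = -1) {v : V} (h : T v = ε • v) : Semi T v := by
  rcases hε with rfl | rfl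
  · exact ⟨v, 0, by simpa using h, by simp, by simp⟩
  · exact ⟨0, v, by simp, by simpa using h, by simp⟩

theorem semi_add {u v : V} (hu : Semi T u) (hv : Semi T v) : Semi T (u + v) := by
  obtain ⟨a, b, ha, hb, rfl⟩ := hu
  obtain ⟨c, d, hc, hd, rfl⟩ := hv
  exact ⟨a + c, b + d, by rw [map_add, ha, hc], by rw [map_add, hb, hd, neg_add], by abel⟩

theorem Inv.symm_mem {U : Submodule F V} (h : Inv T U) {u : V} (hu : u ∈ U) : T.symm u ∈ U := by
  have hmap : U.map (T : V →ₗ[F] V) = U := by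
    refine Submodule.eq_of_le_of_finrank_eq (Submodule.map_le_iff_le_comap.2 h) ?_
    exact LinearEquiv.finrank_map_eq T U
  rw [← hmap] at hu
  obtain ⟨v, hv, rfl⟩ := hu
  simpa using hv

theorem poly_stable {U : Submodule F V} {S : End F V} (h : ∀ u ∈ U, S u ∈ U) (f : F[X]) :
    ∀ u ∈ U, aeval S f u ∈ U := by
  induction f using Polynomial.induction_on with
  | C a => intro u hu; simpa using U.smul_mem a hu
  | add p q hp hq => intro u hu; simpa using U.add_mem (hp u hu) (hq u hu)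
  | monomial n a ih =>
    intro u hu
    rw [pow_succ, ← mul_assoc, map_mul _ (C a * X ^ n) X, Module.End.mul_apply, aeval_X]
    exact ih _ (h u hu)

theorem aeval_commute {R : Type*} [Ring R] [Algebra F R] {a b : R} (h : Commute a b) (f : F[X]) :
    Commute a (aeval b f) := by
  induction f using Polynomial.induction_on with
  | C c => rw [aeval_C]; exact (Algebra.commutes c a).symm
  | add p q hp hq => rw [map_add]; exact hp.add_right hq
  | monomial n c ih => rw [pow_succ, ← mul_assoc, map_mul _ (C c * X ^ n) X, aeval_X]; exact ih.mul_right h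

theorem Inv.poly_mem {U : Submodule F V} (h : Inv T U) (f : F[X]) {u : V} (hu : u ∈ U) :
    aeval (T : End F V) f u ∈ U :=
  poly_stable (fun v hv => h v hv) f u hu

theorem Inv.poly_symm_mem {U : Submodule F V} (h : Inv T U) (f : F[X]) {u : V} (hu : u ∈ U) :
    aeval (T.symm : End F V) f u ∈ U :=
  poly_stable (fun _ hv => h.symm_mem hv) f u hu

theorem Iso.skew (hI : Iso B T) (v w : V) : B v w = - B w v := by
  have h := hI.alt (v + w)
  simp only [map_add, LinearMap.add_apply, hI.alt] at h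
  linear_combination h

theorem Iso.swap (hI : Iso B T) {v w : V} (h : B v w = 0) : B w v = 0 := by rw [hI.skew, h, neg_zero]

theorem Iso.adj (hI : Iso B T) (f : F[X]) (v w : V) :
    B (aeval (T : End F V) f v) w = B v (aeval (T.symm : End F V) f w) := by
  induction f using Polynomial.induction_on generalizing v w with
  | C a => simp
  | add p q hp hq => simp [hp, hq]
  | monomial n a ih =>
    have e1 : ∀ z, aeval (T : End F V) (C a * X ^ (n + 1)) z = aeval (T : End F V) (C a * X ^ n) (T z) := fun z => by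
      rw [pow_succ, ← mul_assoc, map_mul _ (C a * X ^ n) X, Module.End.mul_apply, aeval_X]; rfl
    have e2 : ∀ z, aeval (T.symm : End F V) (C a * X ^ (n + 1)) z = T.symm (aeval (T.symm : End F V) (C a * X ^ n) z) :=
      fun z => by
      rw [pow_succ, ← mul_assoc, mul_comm _ X, map_mul _ X (C a * X ^ n), Module.End.mul_apply, aeval_X]; rfl
    rw [e1, e2, ih]
    conv_lhs => rw [← T.apply_symm_apply (aeval (T.symm : End F V) (C a * X ^ n) w)]
    rw [hI.iso]

theorem Iso.adj' (hI : Iso B T) (f : F[X]) (v w : V) :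
    B (aeval (T.symm : End F V) f v) w = B v (aeval (T : End F V) f w) := by
  rw [hI.skew, ← hI.adj, hI.skew v]

/-- `T` as a unit. -/
def tUnit (T : V ≃ₗ[F] V) : (End F V)ˣ :=
  ⟨T, T.symm, LinearMap.ext fun v => by simp, LinearMap.ext fun v => by simp⟩

theorem poly_symm (f : F[X]) (v : V) :
    aeval (T : End F V) f.reverse v = ((T : End F V) ^ f.natDegree) (aeval (T.symm : End F V) f v) := by
  rw [Polynomial.reverse, show (T : End F V) = (tUnit T : End F V) from rfl, aeval_reflect (tUnit T) _ f le_rfl]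
  rfl

theorem poly_symm' (f : F[X]) (v : V) :
    aeval (T.symm : End F V) f.reverse v = ((T.symm : End F V) ^ f.natDegree) (aeval (T : End F V) f v) :=
  poly_symm (T := T.symm) f v

theorem pow_apply_eq_zero {n : ℕ} {v : V} (h : ((T : End F V) ^ n) v = 0) : v = 0 := by
  induction n with
  | zero => simpa using h
  | succ n ih =>
    rw [pow_succ', Module.End.mul_apply, LinearEquiv.coe_coe, LinearEquiv.map_eq_zero_iff] at h
    exact ih h

theorem poly_symm_zero (f : F[X]) (v : V) :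
    aeval (T.symm : End F V) f v = 0 ↔ aeval (T : End F V) f.reverse v = 0 := by
  rw [poly_symm]
  exact ⟨fun h => by rw [h, map_zero], pow_apply_eq_zero⟩

theorem poly_symm_mem {U : Submodule F V} (h : Inv T U) (f : F[X]) {v : V}
    (hv : aeval (T : End F V) f.reverse v ∈ U) : aeval (T.symm : End F V) f v ∈ U := by
  rw [poly_symm] at hv
  generalize aeval (T.symm : End F V) f v = u at hv ⊢
  generalize f.natDegree = n at hv
  induction n with
  | zero => simpa using hv
  | succ n ih =>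
    rw [pow_succ', Module.End.mul_apply, LinearEquiv.coe_coe] at hv
    exact ih (by simpa using h.symm_mem hv)

/-- The operator `T + T⁻¹`. -/
def hh (T : V ≃ₗ[F] V) : End F V := (T : End F V) + (T.symm : End F V)

/-- The orbit of `x` under polynomials in `T + T⁻¹`. -/
noncomputable def hOrb (T : V ≃ₗ[F] V) (x : V) : Submodule F V :=
  LinearMap.range ((LinearMap.applyₗ x).comp (aeval (hh T)).toLinearMap)

theorem mem_hOrb {x v : V} : v ∈ hOrb T x ↔ ∃ f : F[X], aeval (hh T) f x = v := Iff.rfl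

theorem self_mem_hOrb (x : V) : x ∈ hOrb T x := mem_hOrb.2 ⟨1, by simp⟩

theorem hOrb_hinv {x v : V} (h : v ∈ hOrb T x) : hh T v ∈ hOrb T x := by
  obtain ⟨f, rfl⟩ := mem_hOrb.1 h
  exact mem_hOrb.2 ⟨X * f, by rw [map_mul, aeval_X, Module.End.mul_apply]⟩

theorem Inv.hh_poly_mem {U : Submodule F V} (h : Inv T U) (f : F[X]) {u : V} (hu : u ∈ U) :
    aeval (hh T) f u ∈ U :=
  poly_stable (S := hh T) (fun v hv => U.add_mem (h v hv) (h.symm_mem hv)) f u hu

theorem Iso.hh_adj (hI : Iso B T) (f : F[X]) (v w : V) : B (aeval (hh T) f v) w = B v (aeval (hh T) f w) := by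
  have h1 : ∀ a b, B (hh T a) b = B a (hh T b) := fun a b => by
    simp only [hh, LinearMap.add_apply, LinearEquiv.coe_coe, map_add]
    rw [show B (T a) b = B a (T.symm b) by simpa using hI.adj X a b,
      show B (T.symm a) b = B a (T b) by simpa using hI.adj' X a b, add_comm]
  induction f using Polynomial.induction_on generalizing v w with
  | C a => simp
  | add p q hp hq => simp [hp, hq]
  | monomial n a ih =>
    rw [pow_succ, ← mul_assoc, map_mul _ (C a * X ^ n) X, Module.End.mul_apply, aeval_X, ih, h1,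
      ← Module.End.mul_apply,
      ((aeval_commute (Commute.refl (hh T)) (C a * X ^ n))).eq]

theorem Iso.hh_self (hI : Iso B T) (x : V) (f : F[X]) : B x (aeval (hh T) f x) = 0 := by
  have h1 : ∀ a, B a (hh T a) = 0 := fun a => by
    simp only [hh, LinearMap.add_apply, LinearEquiv.coe_coe, map_add]
    rw [show B a (T.symm a) = B (T a) a by simpa using (hI.adj X a a).symm, hI.skew (T a)]
    ring
  induction f using Polynomial.induction_on with
  | C a => simp [hI.alt]
  | add p q hp hq => simp [hp, hq]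
  | monomial n a _ =>
    rw [map_mul, aeval_C, Module.End.mul_apply, Module.algebraMap_end_apply, map_smul]
    suffices hs : B x (aeval (hh T) (X ^ (n + 1)) x) = 0 by rw [hs, smul_zero]
    obtain ⟨k, hk | hk⟩ := Nat.even_or_odd' (n + 1)
    · rw [hk, two_mul, pow_add, map_mul, Module.End.mul_apply, ← hI.hh_adj, hI.alt]
    · rw [hk, show X ^ (2 * k + 1) = (X ^ k * (X * X ^ k) : F[X]) by ring, map_mul, Module.End.mul_apply,
        ← hI.hh_adj, map_mul, Module.End.mul_apply, aeval_X, h1]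

theorem Iso.hOrb_isot (hI : Iso B T) {x a b : V} (ha : a ∈ hOrb T x) (hb : b ∈ hOrb T x) : B a b = 0 := by
  obtain ⟨f, rfl⟩ := mem_hOrb.1 ha
  obtain ⟨g, rfl⟩ := mem_hOrb.1 hb
  rw [hI.hh_adj, ← Module.End.mul_apply, ← map_mul]
  exact hI.hh_self x _

/-- `M ⊔ T M`. -/
def double (T : V ≃ₗ[F] V) (M : Submodule F V) : Submodule F V := M ⊔ M.map (T : End F V)

theorem mem_double {M : Submodule F V} {u : V} :
    u ∈ double T M ↔ ∃ a ∈ M, ∃ b ∈ M, u = a + T b := by
  rw [double, Submodule.mem_sup]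
  constructor
  · rintro ⟨a, ha, _, ⟨b, hb, rfl⟩, rfl⟩
    exact ⟨a, ha, b, hb, rfl⟩
  · rintro ⟨a, ha, b, hb, rfl⟩
    exact ⟨a, ha, _, ⟨b, hb, rfl⟩, rfl⟩

theorem double_inv {M : Submodule F V} (hM : ∀ l ∈ M, hh T l ∈ M) : Inv T (double T M) := by
  intro u hu
  obtain ⟨a, ha, b, hb, rfl⟩ := mem_double.1 hu
  refine mem_double.2 ⟨-b, M.neg_mem hb, a + hh T b, M.add_mem ha (hM b hb), ?_⟩
  simp only [map_add, hh, LinearMap.add_apply, LinearEquiv.coe_coe, T.apply_symm_apply]
  abel

theorem Iso.perp_double (hI : Iso B T) {M : Submodule F V} (hMi : ∀ a ∈ M, ∀ b ∈ M, B a b = 0) {b : V}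
    (hb : b ∈ M) (h : ∀ l ∈ M, B l (T b) = 0) : ∀ v ∈ double T M, B (T b) v = 0 := fun v hv => by
  obtain ⟨c, hc, d, hd, rfl⟩ := mem_double.1 hv
  rw [map_add, hI.swap (h c hc), hI.iso, hMi b hb d hd, add_zero]

theorem outL_double (hI : Iso B T) {M : Submodule F V} (hMi : ∀ a ∈ M, ∀ b ∈ M, B a b = 0)
    (hM : ∀ l ∈ M, hh T l ∈ M) (hnd : ND B (double T M)) : OutL B T (double T M) M where
  le := le_sup_left
  isot := hMi
  hinv := hM
  max u hu hperp := by
    obtain ⟨a, ha, b, hb, rfl⟩ := mem_double.1 hu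
    have : T b = 0 := hnd _ (mem_double.2 ⟨0, M.zero_mem, b, hb, by simp⟩)
      (hI.perp_double hMi hb fun l hl => by
        have := hperp l hl
        rwa [map_add, hMi l hl a ha, zero_add] at this)
    rw [this, add_zero]
    exact ha
  semi l hl hTl := by
    have : T l = 0 := hnd _ (le_sup_left (a := M) hTl) (hI.perp_double hMi hl fun c hc => hMi c hc _ hTl)
    exact semi_eigen (Or.inl rfl) (by rw [this, (LinearEquiv.map_eq_zero_iff T).1 this, smul_zero])
  full h u hu := by
    have hle : double T M = M := le_antisymm (sup_le le_rfl (Submodule.map_le_iff_le_comap.2 h)) le_sup_left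
    have : u = 0 := hnd u hu fun v hv => hMi u (hle ▸ hu) v (hle ▸ hv)
    exact this ▸ semi_eigen (Or.inl rfl) (by simp)

theorem double_le {M U : Submodule F V} (hU : Inv T U) (h : M ≤ U) : double T M ≤ U :=
  sup_le h (Submodule.map_le_iff_le_comap.2 fun v hv => hU v (h hv))

/-- The smallest invariant subspace containing `x`. -/
noncomputable def cyc (T : V ≃ₗ[F] V) (x : V) : Submodule F V :=
  LinearMap.range ((LinearMap.applyₗ x).comp (aeval (T : End F V)).toLinearMap)

theorem mem_cyc {x v : V} : v ∈ cyc T x ↔ ∃ f : F[X], aeval (T : End F V) f x = v := Iff.rfl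

theorem self_mem_cyc (x : V) : x ∈ cyc T x := mem_cyc.2 ⟨1, by simp⟩

theorem cyc_inv (x : V) : Inv T (cyc T x) := fun v hv => by
  obtain ⟨f, rfl⟩ := mem_cyc.1 hv
  exact mem_cyc.2 ⟨X * f, by rw [map_mul, aeval_X, Module.End.mul_apply]; rfl⟩

theorem double_hOrb (x : V) : double T (hOrb T x) = cyc T x := by
  refine le_antisymm (double_le (cyc_inv x) fun v hv => ?_) fun v hv => ?_
  · obtain ⟨f, rfl⟩ := mem_hOrb.1 hv
    exact (cyc_inv x).hh_poly_mem f (self_mem_cyc x)
  · obtain ⟨f, rfl⟩ := mem_cyc.1 hv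
    exact (double_inv fun l hl => hOrb_hinv hl).poly_mem f (le_sup_left (a := hOrb T x) (self_mem_hOrb x))

theorem Inv.cyc_le {U : Submodule F V} (h : Inv T U) {x : V} (hx : x ∈ U) : cyc T x ≤ U := fun v hv => by
  obtain ⟨f, rfl⟩ := mem_cyc.1 hv
  exact h.poly_mem f hx

theorem outL_cyc (hI : Iso B T) {x : V} (hnd : ND B (cyc T x)) : OutL B T (cyc T x) (hOrb T x) := by
  rw [← double_hOrb] at hnd ⊢
  exact outL_double hI (fun a ha b hb => hI.hOrb_isot ha hb) (fun l hl => hOrb_hinv hl) hnd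

theorem exists_dual_of_ND {U : Submodule F V} (hnd : ND B U) (φ : V →ₗ[F] F) :
    ∃ y ∈ U, ∀ v ∈ U, B v y = φ v := by
  let Ψ : U →ₗ[F] Dual F U := (LinearMap.lcomp F F U.subtype ∘ₗ LinearMap.flip B) ∘ₗ U.subtype
  have hΨ : ∀ y v : U, Ψ y v = B (v : V) (y : V) := fun y v => rfl
  have hinj : Function.Injective Ψ.dualMap := by
    rw [← LinearMap.ker_eq_bot, LinearMap.ker_eq_bot']
    intro Φ hΦ
    obtain ⟨v, rfl⟩ := (Module.evalEquiv F U).surjective Φ
    rw [map_eq_zero_iff _ (Module.evalEquiv F U).injective]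
    refine Subtype.ext (hnd v v.2 fun y hy => ?_)
    have := LinearMap.congr_fun hΦ ⟨y, hy⟩
    simpa [hΨ] using this
  obtain ⟨y, hy⟩ := (LinearMap.dualMap_injective_iff.1 hinj) (φ ∘ₗ U.subtype)
  exact ⟨y, y.2, fun v hv => by rw [← hΨ y ⟨v, hv⟩, hy]; rfl⟩

section Pair

variable {U : Submodule F V} {ε : F} {k : ℕ} {x y : V}

/-- The nilpotent part. -/
def nn (T : V ≃ₗ[F] V) (ε : F) : End F V := (T : End F V) - ε • 1

theorem nn_eq (ε : F) : nn T ε = aeval (T : End F V) (X - C ε) := by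
  simp [nn, Algebra.algebraMap_eq_smul_one]

theorem nn_comm (ε : F) (v : V) : T (nn T ε v) = nn T ε (T v) := by simp [nn]

theorem nn_pow_comm (ε : F) (n : ℕ) (v : V) : T ((nn T ε ^ n) v) = (nn T ε ^ n) (T v) := by
  induction n with
  | zero => simp
  | succ n ih => rw [pow_succ', Module.End.mul_apply, Module.End.mul_apply, nn_comm, ih]

/-- Adjoint of the nilpotent part. -/
theorem Iso.nn_adj (hI : Iso B T) (hε : ε = 1 ∨ ε = -1) (v w : V) :
    B v (nn T ε w) = -ε * B (T.symm (nn T ε v)) w := by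
  have e : ε * ε = 1 := by rcases hε with rfl | rfl <;> ring
  simp only [nn, LinearMap.sub_apply, LinearEquiv.coe_coe, LinearMap.smul_apply, Module.End.one_apply, map_sub,
    map_smul, smul_eq_mul, T.symm_apply_apply]
  rw [show B (T.symm v) w = B v (T w) by simpa using hI.adj' X v w]
  linear_combination (-(B v (T w))) * e

theorem nn_eigen (hk : ∀ u ∈ U, (nn T ε ^ k) u = 0) (hk1 : 1 ≤ k) {u : V} (hu : u ∈ U) :
    T ((nn T ε ^ (k - 1)) u) = ε • (nn T ε ^ (k - 1)) u := by
  have := hk u hu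
  rw [← Nat.sub_add_cancel hk1, pow_succ', Module.End.mul_apply] at this
  exact sub_eq_zero.1 (by simpa [nn] using this)

theorem Iso.nn_pow_adj (hI : Iso B T) (hε : ε = 1 ∨ ε = -1) (b : ℕ) (v w : V) :
    B v ((nn T ε ^ b) w) = (-ε) ^ b * B (((T.symm : End F V) ^ b) ((nn T ε ^ b) v)) w := by
  induction b generalizing w with
  | zero => simp
  | succ b ih =>
    have hc : nn T ε (((T.symm : End F V) ^ b) ((nn T ε ^ b) v)) =
        ((T.symm : End F V) ^ b) (nn T ε ((nn T ε ^ b) v)) := by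
      have h : Commute (nn T ε) ((T.symm : End F V) ^ b) := by
        refine Commute.pow_right ?_ b
        refine LinearMap.ext fun z => ?_
        simp [nn]
      exact LinearMap.congr_fun h.eq _
    rw [pow_succ, Module.End.mul_apply, ih, hI.nn_adj hε, hc, pow_succ, ← pow_succ (nn T ε), pow_succ' (nn T ε),
      pow_succ' (T.symm : End F V), Module.End.mul_apply, Module.End.mul_apply, mul_assoc]
    rfl

theorem Iso.nn_high (hI : Iso B T) (hε : ε = 1 ∨ ε = -1) (hk : ∀ u ∈ U, (nn T ε ^ k) u = 0) {a b : ℕ}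
    (hab : k ≤ a + b) {v : V} (hv : v ∈ U) (w : V) : B ((nn T ε ^ a) v) ((nn T ε ^ b) w) = 0 := by
  have : (nn T ε ^ b) ((nn T ε ^ a) v) = 0 := by
    rw [← Module.End.mul_apply, ← pow_add, add_comm b a, show a + b = (a + b - k) + k by omega, pow_add,
      Module.End.mul_apply, hk v hv, map_zero]
  rw [hI.nn_pow_adj hε, this, map_zero, map_zero, LinearMap.zero_apply, mul_zero]

theorem Iso.nn_top (hI : Iso B T) (hε : ε = 1 ∨ ε = -1) (hk : ∀ u ∈ U, (nn T ε ^ k) u = 0) {a b : ℕ}
    (hab : a + b + 1 = k) {v : V} (hv : v ∈ U) (w : V) :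
    B ((nn T ε ^ a) v) ((nn T ε ^ b) w) = (-1) ^ b * B ((nn T ε ^ (k - 1)) v) w := by
  have e : ε * ε = 1 := by rcases hε with rfl | rfl <;> ring
  have hs : ∀ n : ℕ, ((T.symm : End F V) ^ n) ((nn T ε ^ (k - 1)) v) = ε ^ n • (nn T ε ^ (k - 1)) v := by
    intro n
    induction n with
    | zero => simp
    | succ n ih =>
      rw [pow_succ', Module.End.mul_apply, ih, map_smul, LinearEquiv.coe_coe]
      conv_lhs => rw [show (nn T ε ^ (k - 1)) v = (ε * ε) • (nn T ε ^ (k - 1)) v by rw [e, one_smul], ← smul_smul,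
        ← nn_eigen hk (by omega) hv, map_smul, T.symm_apply_apply, smul_smul, ← pow_succ]
  rw [hI.nn_pow_adj hε, ← Module.End.mul_apply (nn T ε ^ b), ← pow_add, show b + a = k - 1 by omega, hs, map_smul,
    LinearMap.smul_apply, smul_eq_mul, ← mul_assoc, ← mul_pow, neg_mul, e]

/-- Every polynomial in `T` is, on `v`, a constant plus something in the image of the nilpotent part. -/
theorem poly_nn (f : F[X]) (v : V) :
    ∃ g : F[X], aeval (T : End F V) f v = f.eval ε • v + nn T ε (aeval (T : End F V) g v) := by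
  obtain ⟨g, hg⟩ := X_sub_C_dvd_sub_C_eval (a := ε) (p := f)
  refine ⟨g, ?_⟩
  have : f = C (f.eval ε) + (X - C ε) * g := by rw [← hg]; ring
  conv_lhs => rw [this]
  rw [map_add, map_mul, LinearMap.add_apply, Module.End.mul_apply, ← nn_eq, aeval_C, Module.algebraMap_end_apply]

theorem pair_ND (hI : Iso B T) (hU : Inv T U) (hε : ε = 1 ∨ ε = -1) (hk : ∀ u ∈ U, (nn T ε ^ k) u = 0)
    (hk1 : 1 ≤ k) (hzero : ∀ v ∈ U, B ((nn T ε ^ (k - 1)) v) v = 0) (hx : x ∈ U) (hy : y ∈ U)
    (hw : B ((nn T ε ^ (k - 1)) x) y = 1) : ND B (cyc T x ⊔ cyc T y) := by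
  intro z hz hperp
  obtain ⟨_, hp, _, hq, rfl⟩ := Submodule.mem_sup.1 hz
  obtain ⟨p, rfl⟩ := mem_cyc.1 hp
  obtain ⟨q, rfl⟩ := mem_cyc.1 hq
  -- all `z` in the radical lie in every power of the image
  suffices H : ∀ i, i ≤ k → ∃ p' q' : F[X], aeval (T : End F V) p x + aeval (T : End F V) q y =
      (nn T ε ^ i) (aeval (T : End F V) p' x + aeval (T : End F V) q' y) by
    obtain ⟨p', q', e⟩ := H k le_rfl
    rw [e]
    exact hk _ (U.add_mem (hU.poly_mem _ hx) (hU.poly_mem _ hy))
  intro i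
  induction i with
  | zero => exact fun _ => ⟨p, q, by simp⟩
  | succ i ih =>
    intro hi
    obtain ⟨p', q', e⟩ := ih (by omega)
    obtain ⟨p'', hp''⟩ := poly_nn (T := T) (ε := ε) p' x
    obtain ⟨q'', hq''⟩ := poly_nn (T := T) (ε := ε) q' y
    have hyx : B ((nn T ε ^ (k - 1)) y) x = -1 := by
      have := hzero (x + y) (U.add_mem hx hy)
      simp only [map_add, LinearMap.add_apply, hzero x hx, hzero y hy, hw, zero_add, add_zero] at this
      linear_combination this
    have hpair : ∀ v : V, v ∈ cyc T x ⊔ cyc T y → v ∈ U →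
        p'.eval ε * B ((nn T ε ^ (k - 1)) x) v + q'.eval ε * B ((nn T ε ^ (k - 1)) y) v = 0 := by
      intro v hv hvU
      have hmem : (nn T ε ^ (k - 1 - i)) v ∈ cyc T x ⊔ cyc T y := by
        rw [nn_eq, ← map_pow]
        refine Inv.poly_mem (fun u hu => ?_) _ hv
        obtain ⟨a, ha, b, hb, rfl⟩ := Submodule.mem_sup.1 hu
        rw [map_add]
        exact Submodule.add_mem_sup (cyc_inv x a ha) (cyc_inv y b hb)
      have h0 := hperp _ hmem
      rw [e, hp'', hq''] at h0
      simp only [map_add, map_smul, LinearMap.add_apply, LinearMap.smul_apply, smul_eq_mul] at h0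
      have hs : ∀ u, (nn T ε ^ i) (nn T ε u) = (nn T ε ^ (i + 1)) u := fun u => by
        rw [pow_succ, Module.End.mul_apply]
      rw [hs, hs,
        hI.nn_high hε hk (by omega) (hU.poly_mem _ hx), hI.nn_high hε hk (by omega) (hU.poly_mem _ hy),
        add_zero, add_zero, hI.nn_top hε hk (by omega) hx, hI.nn_top hε hk (by omega) hy] at h0
      have h1 : (-1 : F) ^ (k - 1 - i) ≠ 0 := pow_ne_zero _ (by simp)
      refine (mul_eq_zero.1 ?_).resolve_left h1
      linear_combination h0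
    have h1 := hpair y (Submodule.mem_sup_right (self_mem_cyc y)) hy
    have h2 := hpair x (Submodule.mem_sup_left (self_mem_cyc x)) hx
    rw [hw, hzero y hy] at h1
    rw [hzero x hx, hyx] at h2
    refine ⟨p'', q'', ?_⟩
    rw [e, hp'', hq'', pow_succ, Module.End.mul_apply, map_add (nn T ε)]
    rw [show p'.eval ε = 0 by linear_combination h1, show q'.eval ε = 0 by linear_combination -h2]
    simp

theorem hh_sub (hε : ε = 1 ∨ ε = -1) :
    aeval (hh T) (X - C (2 * ε)) = (T.symm : End F V) * nn T ε ^ 2 := by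
  have e : ε * ε = 1 := by rcases hε with rfl | rfl <;> ring
  refine LinearMap.ext fun v => ?_
  simp only [map_sub, aeval_X, aeval_C, LinearMap.sub_apply, Module.algebraMap_end_apply, hh, LinearMap.add_apply,
    LinearEquiv.coe_coe, sq, Module.End.mul_apply, nn, LinearMap.smul_apply, Module.End.one_apply, map_sub, map_smul,
    smul_sub, smul_smul, e, one_smul, T.symm_apply_apply]
  module

theorem hh_eigen (hε : ε = 1 ∨ ε = -1) {w : V} (hw : T w = ε • w) (f : F[X]) :
    aeval (hh T) f w = f.eval (2 * ε) • w := by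
  induction f using Polynomial.induction_on with
  | C a => simp
  | add p q hp hq => simp [hp, hq, add_smul]
  | monomial n a ih =>
    have hs : T.symm w = ε • w := by
      apply T.injective
      rw [T.apply_symm_apply, map_smul, hw, smul_smul]
      rcases hε with rfl | rfl <;> simp
    have h2 : hh T w = (2 * ε) • w := by
      rw [two_mul, add_smul, hh, LinearMap.add_apply, LinearEquiv.coe_coe, LinearEquiv.coe_coe, hw, hs]
    rw [pow_succ, ← mul_assoc, map_mul _ (C a * X ^ n) X, Module.End.mul_apply, aeval_X, h2, map_smul, ih, smul_smul]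
    congr 1
    simp
    ring

theorem outL_pair (hI : Iso B T) (hU : Inv T U) (hnd : ND B U) (hε : ε = 1 ∨ ε = -1)
    (hk : ∀ u ∈ U, (nn T ε ^ k) u = 0) (hk1 : 1 ≤ k) (hzero : ∀ v ∈ U, B ((nn T ε ^ (k - 1)) v) v = 0)
    (hx : x ∈ U) (hx0 : (nn T ε ^ (k - 1)) x ≠ 0)
    (hprime : ∀ W : Submodule F V, W ≤ U → Inv T W → ND B W → W ≠ ⊥ → W = U) : ∃ L, OutL B T U L := by
  have e : ε * ε = 1 := by rcases hε with rfl | rfl <;> ring
  set w := (nn T ε ^ (k - 1)) x with hwdef
  have hTw : T w = ε • w := nn_eigen hk hk1 hx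
  have hwU : w ∈ U := by rw [hwdef, nn_eq, ← map_pow]; exact hU.poly_mem _ hx
  have hsw : ∀ n : ℕ, ((T.symm : End F V) ^ n) w = ε ^ n • w := by
    intro n
    induction n with
    | zero => simp
    | succ n ih =>
      rw [pow_succ', Module.End.mul_apply, ih, map_smul, LinearEquiv.coe_coe]
      conv_lhs => rw [show w = (ε * ε) • w by rw [e, one_smul], ← smul_smul, ← hTw, map_smul, T.symm_apply_apply,
        smul_smul, ← pow_succ]
  -- the parity
  obtain ⟨δ, hδ, hpar⟩ : ∃ δ, δ ≤ 1 ∧ ∀ j, 2 * j + δ ≠ k - 1 :=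
    ⟨k % 2, by omega, fun j => by omega⟩
  -- powers of `hh - 2 ε`
  have hpow : ∀ j : ℕ, aeval (hh T) ((X - C (2 * ε)) ^ j) = (T.symm : End F V) ^ j * nn T ε ^ (2 * j) := by
    intro j
    rw [map_pow, hh_sub hε, Commute.mul_pow, ← pow_mul]
    refine Commute.pow_right ?_ 2
    refine LinearMap.ext fun z => ?_
    simp [nn]
  -- `w` avoids the shifted orbit
  have havoid : w ∉ (hOrb T x).map ((T.symm : End F V) ^ δ * nn T ε ^ δ) := by
    rintro ⟨v, hv, hvw⟩
    obtain ⟨f, rfl⟩ := mem_hOrb.1 hv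
    by_cases hf : f = 0
    · exact hx0 (by rw [← hvw, hf]; simp)
    obtain ⟨q, hq, hq0⟩ := Polynomial.exists_eq_pow_rootMultiplicity_mul_and_not_dvd f hf (2 * ε)
    set j := f.rootMultiplicity (2 * ε)
    rw [hq, map_mul, hpow, ← Module.End.mul_apply, ← mul_assoc] at hvw
    have hcm : ((T.symm : End F V) ^ δ * nn T ε ^ δ) * ((T.symm : End F V) ^ j * nn T ε ^ (2 * j)) =
        (T.symm : End F V) ^ (δ + j) * nn T ε ^ (2 * j + δ) := by
      have hc : Commute (T.symm : End F V) (nn T ε) := LinearMap.ext fun z => by simp [nn]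
      rw [mul_assoc, ← mul_assoc (nn T ε ^ δ), ← (hc.pow_pow j δ).eq, mul_assoc, ← pow_add (nn T ε), ← mul_assoc,
        ← pow_add, add_comm δ (2 * j)]
    rw [hcm, Module.End.mul_apply] at hvw
    have hqU : aeval (hh T) q x ∈ U := hU.hh_poly_mem q hx
    rcases le_or_gt k (2 * j + δ) with hbig | hsmall
    · refine hx0 ?_
      have hs : ∀ m, (nn T ε ^ (m + k)) (aeval (hh T) q x) = 0 := fun m => by
        rw [pow_add, Module.End.mul_apply, hk _ hqU, map_zero]
      rw [← hvw, Module.End.mul_apply, show 2 * j + δ = (2 * j + δ - k) + k by omega, hs, map_zero]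
    · have hlt : 2 * j + δ < k - 1 := lt_of_le_of_ne (by omega) (hpar j)
      have h1 := congrArg (nn T ε ^ (k - 1 - (2 * j + δ))) hvw
      have hc : Commute (nn T ε) (T.symm : End F V) := LinearMap.ext fun z => by simp [nn]
      have hr : (nn T ε ^ (k - 1 - (2 * j + δ))) w = 0 := by
        rw [show k - 1 - (2 * j + δ) = (k - 2 - (2 * j + δ)) + 1 by omega, pow_succ, Module.End.mul_apply,
          show nn T ε w = 0 by simp [nn, hTw], map_zero]
      have hc2 : Commute (nn T ε ^ (k - 1)) (aeval (hh T) q) := by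
        refine (aeval_commute ?_ q).pow_left _
        refine LinearMap.ext fun z => ?_
        simp [nn, hh, smul_add]
        abel
      rw [hr, ← Module.End.mul_apply, ← mul_assoc, (hc.pow_pow _ _).eq, mul_assoc, ← pow_add,
        show k - 1 - (2 * j + δ) + (2 * j + δ) = k - 1 by omega, Module.End.mul_apply,
        show (nn T ε ^ (k - 1)) (aeval (hh T) q x) = aeval (hh T) q w from LinearMap.congr_fun hc2.eq x, hh_eigen hε hTw, map_smul, hsw] at h1
      simp only [smul_eq_zero, smul_smul, mul_eq_zero, hx0, or_false] at h1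
      rcases h1 with h1 | h1
      · exact hq0 (dvd_iff_isRoot.2 h1)
      · exact pow_ne_zero _ (fun h => one_ne_zero (α := F) (by rw [← e, h, mul_zero])) h1
  obtain ⟨φ, hφw, hφ⟩ := Submodule.exists_dual_map_eq_bot_of_notMem havoid inferInstance
  have hφ0 : ∀ v ∈ (hOrb T x).map ((T.symm : End F V) ^ δ * nn T ε ^ δ), φ v = 0 := fun v hv => by
    have : φ v ∈ Submodule.map φ ((hOrb T x).map ((T.symm : End F V) ^ δ * nn T ε ^ δ)) := ⟨v, hv, rfl⟩
    rwa [hφ, Submodule.mem_bot] at this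
  obtain ⟨y, hy, hyφ⟩ := exists_dual_of_ND hnd ((φ w)⁻¹ • φ)
  have hw : B w y = 1 := by rw [hyφ w hwU, LinearMap.smul_apply, smul_eq_mul, inv_mul_cancel₀ hφw]
  set z := (nn T ε ^ δ) y with hzdef
  have hcross : ∀ a ∈ hOrb T x, ∀ b ∈ hOrb T z, B a b = 0 := by
    intro a ha b hb
    obtain ⟨g, rfl⟩ := mem_hOrb.1 hb
    obtain ⟨f, rfl⟩ := mem_hOrb.1 ha
    rw [← hI.hh_adj, ← Module.End.mul_apply, ← map_mul, hzdef, hI.nn_pow_adj hε, ← Module.End.mul_apply,
      hyφ _ (by
        rw [Module.End.mul_apply, nn_eq, ← map_pow, ← aeval_X (R := F) (T.symm : End F V), ← map_pow]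
        exact hU.poly_symm_mem _ (hU.poly_mem _ (hU.hh_poly_mem _ hx))),
      LinearMap.smul_apply, hφ0 _ ⟨_, mem_hOrb.2 ⟨g * f, rfl⟩, rfl⟩, smul_zero, mul_zero]
  set M := hOrb T x ⊔ hOrb T z with hMdef
  have hMi : ∀ a ∈ M, ∀ b ∈ M, B a b = 0 := by
    intro a ha b hb
    obtain ⟨a₁, h₁, a₂, h₂, rfl⟩ := Submodule.mem_sup.1 ha
    obtain ⟨b₁, h₃, b₂, h₄, rfl⟩ := Submodule.mem_sup.1 hb
    simp only [map_add, LinearMap.add_apply, hI.hOrb_isot h₁ h₃, hI.hOrb_isot h₂ h₄, hcross _ h₁ _ h₄,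
      hI.swap (hcross _ h₃ _ h₂), add_zero]
  have hM : ∀ l ∈ M, hh T l ∈ M := fun l hl => by
    obtain ⟨a, ha, b, hb, rfl⟩ := Submodule.mem_sup.1 hl
    rw [map_add]
    exact Submodule.add_mem_sup (hOrb_hinv ha) (hOrb_hinv hb)
  have hndP := pair_ND hI hU hε hk hk1 hzero hx hy hw
  have hdM : double T M = cyc T x ⊔ cyc T z := by
    rw [hMdef, double, Submodule.map_sup, ← double_hOrb, ← double_hOrb, double, double]
    ac_rfl
  have hP : cyc T x ⊔ cyc T y = U := by
    refine hprime _ (sup_le (hU.cyc_le hx) (hU.cyc_le hy)) (fun u hu => ?_) hndP fun hb => ?_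
    · obtain ⟨a, ha, b, hb, rfl⟩ := Submodule.mem_sup.1 hu
      rw [map_add]
      exact Submodule.add_mem_sup (cyc_inv x a ha) (cyc_inv y b hb)
    · have : x ∈ cyc T x ⊔ cyc T y := Submodule.mem_sup_left (self_mem_cyc x)
      rw [hb, Submodule.mem_bot] at this
      exact hx0 (by rw [hwdef, this, map_zero])
  rcases Nat.le_one_iff_eq_zero_or_eq_one.1 hδ with rfl | rfl
  · -- `k` even
    have hzy : z = y := by simp [hzdef]
    rw [hzy] at hdM
    rw [hP] at hdM
    exact ⟨M, hdM ▸ outL_double hI hMi hM (hdM ▸ hnd)⟩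
  -- `k` odd
  obtain ⟨i, hi⟩ : ∃ i, k - 1 = 2 * i := ⟨(k - 1) / 2, by have := hpar ((k - 2) / 2); omega⟩
  have hwM : w ∈ M := by
    refine Submodule.mem_sup_left (mem_hOrb.2 ⟨C (ε ^ i) * (X - C (2 * ε)) ^ i, ?_⟩)
    rw [map_mul, Module.End.mul_apply, hpow, Module.End.mul_apply, ← hi, ← hwdef, hsw, aeval_C,
      Module.algebraMap_end_apply, smul_smul, ← mul_pow, e, one_pow, one_smul]
  have hzy : z = nn T ε y := by rw [hzdef, pow_one]
  have hperpw : ∀ v ∈ double T M, B w v = 0 := by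
    intro v hv
    rw [hdM] at hv
    obtain ⟨a, ha, b, hb, rfl⟩ := Submodule.mem_sup.1 hv
    obtain ⟨f, rfl⟩ := mem_cyc.1 ha
    obtain ⟨g, rfl⟩ := mem_cyc.1 hb
    obtain ⟨f', hf'⟩ := poly_nn (T := T) (ε := ε) f x
    have h0 : ∀ u, B w (nn T ε u) = 0 := fun u => by
      have := hI.nn_high hε hk (a := k - 1) (b := 1) (by omega) hx u
      rwa [pow_one] at this
    rw [map_add, hf', map_add, map_smul, h0, hzero x hx, smul_zero, zero_add, zero_add, hzy,
      ← Module.End.mul_apply, nn_eq, ← map_mul, mul_comm, map_mul, Module.End.mul_apply, ← nn_eq, h0]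
  have hsplit : ∀ u ∈ U, ∃ a ∈ double T M, ∃ c : F, u = a + c • y := by
    intro u hu
    rw [← hP] at hu
    obtain ⟨a, ha, b, hb, rfl⟩ := Submodule.mem_sup.1 hu
    obtain ⟨g, rfl⟩ := mem_cyc.1 hb
    obtain ⟨g', hg'⟩ := poly_nn (T := T) (ε := ε) g y
    refine ⟨a + aeval (T : End F V) g' z, ?_, g.eval ε, ?_⟩
    · rw [hdM]
      exact Submodule.add_mem_sup ha (mem_cyc.2 ⟨g', rfl⟩)
    · rw [hg', hzy, ← Module.End.mul_apply (aeval (T : End F V) g'), nn_eq, ← map_mul, mul_comm g', map_mul,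
        Module.End.mul_apply]
      abel
  have hdU : double T M ≤ U := by
    rw [hdM, ← hP]
    refine sup_le le_sup_left (le_sup_of_le_right ((cyc_inv y).cyc_le ?_))
    rw [hzy, nn_eq]
    exact mem_cyc.2 ⟨_, rfl⟩
  have hline : ∀ v ∈ U, (∀ u ∈ double T M, B v u = 0) → v = B v y • w := by
    intro v hv h
    refine sub_eq_zero.1 (hnd _ (U.sub_mem hv (U.smul_mem _ hwU)) fun u hu => ?_)
    obtain ⟨a, ha, c, rfl⟩ := hsplit u hu
    simp only [map_sub, map_add, map_smul, LinearMap.sub_apply, LinearMap.smul_apply, smul_eq_mul, h a ha,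
      hperpw a ha, hw]
    ring
  have hsemi : ∀ l ∈ M, T l ∈ M → T l = ε • l := by
    intro l hl hTl
    have h1 := hline _ (hdU (le_sup_left (a := M) hTl)) (hI.perp_double hMi hl fun c hc => hMi c hc _ hTl)
    apply T.injective
    rw [map_smul, h1, map_smul, hTw, smul_comm]
  refine ⟨M, ⟨fun v hv => hdU (le_sup_left (a := M) hv), hMi, fun u hu hperp => ?_, hM,
    fun l hl hTl => semi_eigen hε (hsemi l hl hTl), fun h u hu => ?_⟩⟩
  · obtain ⟨a, ha, c, rfl⟩ := hsplit u hu
    have hc : c = 0 := by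
      have := hperp w hwM
      rwa [map_add, hperpw a ha, zero_add, map_smul, hw, smul_eq_mul, mul_one] at this
    rw [hc, zero_smul, add_zero] at hperp ⊢
    obtain ⟨a', ha', b, hb, rfl⟩ := mem_double.1 ha
    have h1 := hline _ (hdU (mem_double.2 ⟨0, M.zero_mem, b, hb, by simp⟩)) (hI.perp_double hMi hb fun l hl => by
      have := hperp l hl
      rwa [map_add, hMi l hl a' ha', zero_add] at this)
    rw [h1]
    exact M.add_mem ha' (M.smul_mem _ hwM)
  · have hTx := hsemi x (Submodule.mem_sup_left (self_mem_hOrb x)) (h _ (Submodule.mem_sup_left (self_mem_hOrb x)))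
    have hk2 : k = 1 := by
      by_contra hne
      refine hx0 ?_
      rw [hwdef, show k - 1 = (k - 2) + 1 by omega, pow_succ, Module.End.mul_apply,
        show nn T ε x = 0 by simp [nn, hTx], map_zero]
    have := hk u hu
    rw [hk2, pow_one] at this
    exact semi_eigen hε (sub_eq_zero.1 (by simpa [nn] using this))

end Pair

theorem reverse_reverse' {p : F[X]} (h : p.coeff 0 ≠ 0) : p.reverse.reverse = p := by
  have hd : p.reverse.natDegree = p.natDegree := by
    rw [Polynomial.reverse_natDegree, natTrailingDegree_eq_zero.2 (Or.inr h), Nat.sub_zero]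
  rw [Polynomial.reverse, hd, Polynomial.reverse, reflect_reflect]

theorem irreducible_reverse {p : F[X]} (hp : Irreducible p) (h : p.coeff 0 ≠ 0) : Irreducible p.reverse := by
  have hd : p.reverse.natDegree = p.natDegree := by
    rw [Polynomial.reverse_natDegree, natTrailingDegree_eq_zero.2 (Or.inr h), Nat.sub_zero]
  have hne : p.reverse ≠ 0 := by simpa using hp.ne_zero
  refine ⟨fun hu => ?_, fun a b hab => ?_⟩
  · have := natDegree_eq_zero_of_isUnit hu
    rw [hd] at this
    exact absurd this hp.natDegree_pos.ne'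
  · have ha : a ≠ 0 := fun h0 => hne (by rw [hab, h0, zero_mul])
    have hb : b ≠ 0 := fun h0 => hne (by rw [hab, h0, mul_zero])
    have h1 : p = a.reverse * b.reverse := by rw [← reverse_mul_of_domain, ← hab, reverse_reverse' h]
    have hc0 : a.coeff 0 * b.coeff 0 ≠ 0 := by
      rw [← mul_coeff_zero, ← hab, coeff_zero_reverse]
      exact leadingCoeff_ne_zero.2 hp.ne_zero
    have key : ∀ c : F[X], c.coeff 0 ≠ 0 → IsUnit c.reverse → IsUnit c := fun c hc hu => by
      have h2 := natDegree_eq_zero_of_isUnit hu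
      rw [Polynomial.reverse_natDegree, natTrailingDegree_eq_zero.2 (Or.inr hc), Nat.sub_zero] at h2
      rw [eq_C_of_natDegree_eq_zero h2]
      exact isUnit_C.2 (isUnit_iff_ne_zero.2 hc)
    exact (hp.isUnit_or_isUnit h1).imp (key a (left_ne_zero_of_mul hc0)) (key b (right_ne_zero_of_mul hc0))

theorem reverse_X_sub_C (ε : F) : (X - C ε).reverse = 1 - C ε * X := by
  rw [Polynomial.reverse, natDegree_X_sub_C,
    show (X - C ε : F[X]) = C 1 * X ^ 1 + C (-ε) * X ^ 0 by rw [map_one, map_neg]; ring, reflect_add,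
    reflect_C_mul_X_pow, reflect_C_mul_X_pow, revAt_le le_rfl, revAt_le (Nat.zero_le 1), map_one, map_neg]
  simp only [Nat.sub_self, Nat.sub_zero]
  ring

/-- The annihilator data on an indecomposable invariant subspace. -/
structure Prime' (B : LinearMap.BilinForm F V) (T : V ≃ₗ[F] V) (U : Submodule F V) (μ p r : F[X]) : Prop where
  inv : Inv T U
  nd : ND B U
  ann : ∀ u ∈ U, aeval (T : End F V) μ u = 0
  low : ∀ f : F[X], (∀ u ∈ U, aeval (T : End F V) f u = 0) → μ ∣ f
  irr : Irreducible p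
  coeff : p.coeff 0 ≠ 0
  fac : μ = p * r
  pow : ∃ n, μ ∣ (p * p.reverse) ^ n

variable {U : Submodule F V} {μ p r : F[X]}

theorem Prime'.rev_dvd (hI : Iso B T) (h : Prime' B T U μ p r) : μ ∣ μ.reverse := h.low _ fun u hu => by
  rw [← poly_symm_zero]
  exact h.nd _ (h.inv.poly_symm_mem μ hu) fun v hv => by rw [hI.adj', h.ann v hv, map_zero]

/-- A cofactor of an irreducible factor. -/
theorem Prime'.cofactor (hI : Iso B T) (h : Prime' B T U μ p r) {q s : F[X]} (hqi : Irreducible q)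
    (hs : μ = q * s) : s ∣ r ∨ s ∣ r.reverse := by
  obtain ⟨n, hn⟩ := h.pow
  have hq : Associated q p ∨ Associated q p.reverse :=
    (hqi.prime.dvd_or_dvd (hqi.prime.dvd_of_dvd_pow ((Dvd.intro s hs.symm).trans hn))).imp
      (hqi.associated_of_dvd h.irr) (hqi.associated_of_dvd (irreducible_reverse h.irr h.coeff))
  rcases hq with ⟨c, hc⟩ | ⟨c, hc⟩
  · left
    refine ⟨↑c⁻¹, ?_⟩
    have : q * s = q * (↑c * r) := by rw [← hs, h.fac, ← hc, mul_assoc]
    rw [mul_left_cancel₀ hqi.ne_zero this, mul_comm (↑c : F[X]), mul_assoc, Units.mul_inv, mul_one]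
  · right
    have h1 : q * s ∣ q * (↑c * r.reverse) := by
      rw [← hs, ← mul_assoc, hc, ← reverse_mul_of_domain, ← h.fac]; exact h.rev_dvd hI
    exact Units.dvd_mul_left.1 ((mul_dvd_mul_iff_left hqi.ne_zero).1 h1)

/-- No cofactor sends `x` into a subspace orthogonal to its orbit. -/
theorem not_mem_perp (hI : Iso B T) {x : V}
    (hB : B (aeval (T : End F V) r x) x ≠ 0 ∨ B (T (aeval (T : End F V) r x)) x ≠ 0) {s : F[X]}
    (hs : s ∣ r ∨ s ∣ r.reverse) {R : Submodule F V} (hR : Inv T R)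
    (hperp : ∀ u ∈ R, B u x = 0) : aeval (T : End F V) s x ∉ R := by
  intro hmem
  rcases hs with ⟨c, hc⟩ | ⟨c, hc⟩
  · have hrx : aeval (T : End F V) r x ∈ R := by
      rw [hc, mul_comm, map_mul, Module.End.mul_apply]; exact hR.poly_mem _ hmem
    exact hB.elim (fun h => h (hperp _ hrx)) fun h => h (hperp _ (hR _ hrx))
  · have hrx : aeval (T.symm : End F V) r x ∈ R := by
      refine poly_symm_mem hR r ?_
      rw [hc, mul_comm, map_mul, Module.End.mul_apply]; exact hR.poly_mem _ hmem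
    refine hB.elim (fun h => h (by rw [hI.adj]; exact hI.swap (hperp _ hrx))) fun h => h ?_
    have e : B (T (aeval (T : End F V) r x)) x = B (aeval (T : End F V) r x) (T.symm x) := by
      simpa using hI.adj X (aeval (T : End F V) r x) x
    have hc2 : aeval (T.symm : End F V) r (T.symm x) = T.symm (aeval (T.symm : End F V) r x) :=
      (LinearMap.congr_fun (aeval_commute (Commute.refl (T.symm : End F V)) r).eq x).symm
    rw [e, hI.adj, hc2]
    exact hI.swap (hperp _ (hR.symm_mem hrx))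

theorem Prime'.ann_point (hI : Iso B T) (h : Prime' B T U μ p r) {x : V} (hx : x ∈ U)
    (hB : B (aeval (T : End F V) r x) x ≠ 0 ∨ B (T (aeval (T : End F V) r x)) x ≠ 0) {f : F[X]}
    (hf : aeval (T : End F V) f x = 0) : μ ∣ f := by
  classical
  by_contra hnd'
  have hg : aeval (T : End F V) (EuclideanDomain.gcd f μ) x = 0 := by
    rw [EuclideanDomain.gcd_eq_gcd_ab, map_add, LinearMap.add_apply, mul_comm f, mul_comm μ, map_mul, map_mul,
      Module.End.mul_apply, Module.End.mul_apply, hf, h.ann x hx, map_zero, map_zero, add_zero]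
  obtain ⟨c, hc⟩ := EuclideanDomain.gcd_dvd_right f μ
  have hcu : ¬ IsUnit c := fun hu => hnd' <| by
    calc μ ∣ EuclideanDomain.gcd f μ := (dvd_of_eq hc).trans (hu.mul_right_dvd.2 dvd_rfl)
      _ ∣ f := EuclideanDomain.gcd_dvd_left f μ
  obtain ⟨q, -, hqi, c₂, rfl⟩ := Polynomial.exists_monic_irreducible_factor c hcu
  refine not_mem_perp hI hB (h.cofactor hI hqi (s := EuclideanDomain.gcd f μ * c₂) (hc.trans (by ring)))
    (R := ⊥) (fun u hu => by rw [Submodule.mem_bot] at hu ⊢; rw [hu, map_zero])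
    (fun u hu => by rw [(Submodule.mem_bot F).1 hu, map_zero, LinearMap.zero_apply]) ?_
  rw [Submodule.mem_bot, mul_comm, map_mul, Module.End.mul_apply, hg, map_zero]

theorem Prime'.cyc_ND (hI : Iso B T) (h : Prime' B T U μ p r) {x : V} (hx : x ∈ U)
    (hB : B (aeval (T : End F V) r x) x ≠ 0 ∨ B (T (aeval (T : End F V) r x)) x ≠ 0) : ND B (cyc T x) := by
  intro z hz hperp
  by_contra hz0
  set R : Submodule F V := cyc T x ⊓ ⨅ v : cyc T x, LinearMap.ker ((LinearMap.flip B) (v : V))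
  have hmemR : ∀ u, u ∈ R ↔ u ∈ cyc T x ∧ ∀ v ∈ cyc T x, B u v = 0 := fun u => by simp [R]
  have hR : Inv T R := fun u hu => by
    rw [hmemR] at hu ⊢
    exact ⟨cyc_inv x u hu.1, fun v hv => by
      rw [← T.apply_symm_apply v, hI.iso]; exact hu.2 _ ((cyc_inv x).symm_mem hv)⟩
  obtain ⟨n, hn⟩ := h.pow
  -- an element of `R` killed by an irreducible
  obtain ⟨q, hqi, z', hz', hz'0, hqz⟩ : ∃ q : F[X], Irreducible q ∧ ∃ z' ∈ R, z' ≠ 0 ∧
      aeval (T : End F V) q z' = 0 := by
    by_contra hc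
    push Not at hc
    have key : ∀ m : ℕ, ∀ u ∈ R, aeval (T : End F V) ((p * p.reverse) ^ m) u = 0 → u = 0 := by
      intro m
      induction m with
      | zero => intro u _ h'; simpa using h'
      | succ m ih =>
        intro u hu h'
        rw [pow_succ, map_mul, Module.End.mul_apply] at h'
        have h1 := ih _ (hR.poly_mem _ hu) h'
        rw [map_mul, Module.End.mul_apply] at h1
        by_contra hu0
        by_cases h2 : aeval (T : End F V) p.reverse u = 0
        · exact hc _ (irreducible_reverse h.irr h.coeff) u hu hu0 h2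
        · exact hc _ h.irr _ (hR.poly_mem _ hu) h2 h1
    obtain ⟨c, hc'⟩ := hn
    refine hz0 (key n z ((hmemR z).2 ⟨hz, hperp⟩) ?_)
    rw [hc', mul_comm, map_mul, Module.End.mul_apply, h.ann z (h.inv.cyc_le hx hz), map_zero]
  obtain ⟨f, rfl⟩ := mem_cyc.1 ((hmemR z').1 hz').1
  rw [← Module.End.mul_apply, ← map_mul] at hqz
  have hdiv := h.ann_point hI hx hB hqz
  have hqμ : q ∣ μ := by
    by_contra hn'
    refine hz'0 ?_
    obtain ⟨c, hc⟩ := (hqi.coprime_iff_not_dvd.2 hn').symm.dvd_of_dvd_mul_left hdiv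
    rw [hc, mul_comm, map_mul, Module.End.mul_apply, h.ann x hx, map_zero]
  obtain ⟨s, hs⟩ := hqμ
  rw [hs] at hdiv
  obtain ⟨t, rfl⟩ := (mul_dvd_mul_iff_left hqi.ne_zero).1 hdiv
  have hqt : ¬ q ∣ t := by
    rintro ⟨c, rfl⟩
    refine hz'0 ?_
    rw [show s * (q * c) = c * μ by rw [hs]; ring, map_mul, Module.End.mul_apply, h.ann x hx, map_zero]
  obtain ⟨a, b, hab⟩ := hqi.coprime_iff_not_dvd.2 hqt
  refine not_mem_perp hI hB (h.cofactor hI hqi hs) hR (fun u hu => ((hmemR u).1 hu).2 x (self_mem_cyc x)) ?_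
  have : aeval (T : End F V) s x = aeval (T : End F V) b (aeval (T : End F V) (s * t) x) := by
    conv_lhs => rw [show s = b * (s * t) + a * μ by rw [hs]; linear_combination (-s) * hab]
    rw [map_add, LinearMap.add_apply, map_mul _ b, map_mul _ a, Module.End.mul_apply, Module.End.mul_apply,
      h.ann x hx, map_zero, add_zero]
  rw [this]
  exact hR.poly_mem _ hz'

theorem Prime'.exists_eigen (hI : Iso B T) (h : Prime' B T U μ p r) (hr0 : r ≠ 0) (hpm : p.Monic) (hμm : μ.Monic)
    (hex : ∀ x ∈ U, B (aeval (T : End F V) r x) x = 0 ∧ B (T (aeval (T : End F V) r x)) x = 0) :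
    ∃ (ε : F) (k : ℕ), (ε = 1 ∨ ε = -1) ∧ p = X - C ε ∧ μ = p ^ k := by
  have hU := h.inv
  have hpol : ∀ (S : End F V), (∀ v ∈ U, B (S v) v = 0) → ∀ u ∈ U, ∀ v ∈ U, B (S u) v = - B (S v) u := by
    intro S hS u hu v hv
    have := hS (u + v) (U.add_mem hu hv)
    simp only [map_add, LinearMap.add_apply, hS u hu, hS v hv] at this
    linear_combination this
  have hr1 : ∀ u ∈ U, aeval (T : End F V) r u = aeval (T.symm : End F V) r u := by
    intro u hu
    refine sub_eq_zero.1 (h.nd _ (U.sub_mem (hU.poly_mem _ hu) (hU.poly_symm_mem _ hu)) fun v hv => ?_)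
    rw [map_sub, LinearMap.sub_apply, hI.adj', hI.skew u, ← hpol _ (fun w hw => (hex w hw).1) u hu v hv, sub_self]
  have hr2 : ∀ u ∈ U, T (aeval (T : End F V) r u) = T.symm (aeval (T : End F V) r u) := by
    intro u hu
    have hru := hU.poly_mem r hu
    refine sub_eq_zero.1 (h.nd _ (U.sub_mem (hU _ hru) (hU.symm_mem hru)) fun v hv => ?_)
    have h3 := hpol ((T : End F V) * aeval (T : End F V) r) (fun w hw => (hex w hw).2) u hu v hv
    simp only [Module.End.mul_apply, LinearEquiv.coe_coe] at h3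
    have e1 : B (T.symm (aeval (T.symm : End F V) r u)) v = B (aeval (T.symm : End F V) r u) (T v) := by
      simpa using hI.adj' X (aeval (T.symm : End F V) r u) v
    have e2 : aeval (T : End F V) r (T v) = T (aeval (T : End F V) r v) :=
      (LinearMap.congr_fun (aeval_commute (Commute.refl (T : End F V)) r).eq v).symm
    rw [map_sub, LinearMap.sub_apply, sub_eq_zero, h3, hr1 u hu, e1, hI.adj', e2, hI.skew u]
  have hdvd : p ∣ X ^ 2 - 1 := by
    have h2 : μ ∣ (X ^ 2 - 1) * r := h.low _ fun u hu => by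
      rw [map_mul, Module.End.mul_apply, map_sub, map_pow, aeval_X, map_one, LinearMap.sub_apply, sq,
        Module.End.mul_apply, Module.End.one_apply, LinearEquiv.coe_coe, hr2 u hu, T.apply_symm_apply, sub_self]
    rw [h.fac] at h2
    exact (mul_dvd_mul_iff_right hr0).1 h2
  obtain ⟨ε, hε, hpε⟩ : ∃ ε : F, (ε = 1 ∨ ε = -1) ∧ p = X - C ε := by
    rw [show (X ^ 2 - 1 : F[X]) = (X - C 1) * (X - C (-1)) by rw [map_neg, map_one]; ring] at hdvd
    rcases h.irr.prime.dvd_or_dvd hdvd with h' | h'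
    · exact ⟨1, Or.inl rfl, eq_of_monic_of_associated hpm (monic_X_sub_C _)
        (h.irr.associated_of_dvd (irreducible_X_sub_C _) h')⟩
    · exact ⟨-1, Or.inr rfl, eq_of_monic_of_associated hpm (monic_X_sub_C _)
        (h.irr.associated_of_dvd (irreducible_X_sub_C _) h')⟩
  obtain ⟨n, hn⟩ := h.pow
  have hrev : p.reverse ∣ p := by
    refine ⟨C (-ε), ?_⟩
    have : (C ε : F[X]) * C ε = 1 := by
      rw [← map_mul]; rcases hε with h' | h' <;> simp [h']
    rw [hpε, reverse_X_sub_C, map_neg]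
    linear_combination (-X) * this
  have h1 : μ ∣ (p * p) ^ n := hn.trans (pow_dvd_pow_of_dvd (mul_dvd_mul_left p hrev) n)
  rw [← sq, ← pow_mul] at h1
  obtain ⟨i, -, hi⟩ := (dvd_prime_pow h.irr.prime _).1 h1
  exact ⟨ε, i, hε, hpε, eq_of_monic_of_associated hμm (hpm.pow i) hi⟩

theorem exists_outL_prime (hI : Iso B T) (hU : Inv T U) (hnd : ND B U) (h0 : U ≠ ⊥)
    (hprime : ∀ W : Submodule F V, W ≤ U → Inv T W → ND B W → W ≠ ⊥ → W = U) : ∃ L, OutL B T U L := by
  classical
  set Tu : End F U := (T : End F V).restrict hU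
  have hres : ∀ (f : F[X]) (u : U), ((aeval Tu f u : U) : V) = aeval (T : End F V) f (u : V) := by
    intro f
    induction f using Polynomial.induction_on with
    | C a => simp
    | add p q hp hq => simp [hp, hq]
    | monomial n a ih =>
      intro u
      rw [pow_succ, ← mul_assoc, map_mul _ (C a * X ^ n) X, map_mul _ (C a * X ^ n) X, Module.End.mul_apply,
        Module.End.mul_apply, aeval_X, aeval_X, ih]
      rfl
  haveI : Nontrivial U := Submodule.nontrivial_iff_ne_bot.2 h0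
  have hμint : IsIntegral F Tu := Algebra.IsIntegral.isIntegral _
  obtain ⟨μ, hμdef⟩ : ∃ μ, μ = minpoly F Tu := ⟨_, rfl⟩
  have hμ : ∀ u ∈ U, aeval (T : End F V) μ u = 0 := fun u hu => by
    rw [← hres μ ⟨u, hu⟩, hμdef, minpoly.aeval, LinearMap.zero_apply, Submodule.coe_zero]
  have hμdvd : ∀ f : F[X], (∀ u ∈ U, aeval (T : End F V) f u = 0) → μ ∣ f := fun f hf =>
    hμdef ▸ minpoly.dvd _ _ (LinearMap.ext fun u => Subtype.ext (by rw [hres, hf _ u.2]; rfl))
  have hμne : μ ≠ 0 := hμdef ▸ minpoly.ne_zero hμint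
  have hμ0 : μ.coeff 0 ≠ 0 := by
    intro hc
    obtain ⟨r, hr⟩ := X_dvd_iff.2 hc
    have h1 : μ ∣ r := hμdvd r fun u hu => by
      have := hμ u hu
      rwa [hr, map_mul, aeval_X, Module.End.mul_apply, LinearEquiv.coe_coe, LinearEquiv.map_eq_zero_iff] at this
    have hr0 : r ≠ 0 := fun e => hμne (by rw [hr, e, mul_zero])
    have h2 := natDegree_le_of_dvd h1 hr0
    rw [hr, natDegree_X_mul hr0] at h2
    omega
  obtain ⟨p, hpm, hp, r, hr⟩ := Polynomial.exists_monic_irreducible_factor μ (hμdef ▸ minpoly.not_isUnit F Tu)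
  have hp0 : p.coeff 0 ≠ 0 := fun e => hμ0 (by rw [hr, mul_coeff_zero, e, zero_mul])
  have hr0 : r ≠ 0 := fun e => hμne (by rw [hr, e, mul_zero])
  obtain ⟨x₀, hx₀, hrx₀⟩ : ∃ u ∈ U, aeval (T : End F V) r u ≠ 0 := by
    by_contra hc
    push Not at hc
    have := natDegree_le_of_dvd (hμdvd r hc) hr0
    rw [hr, natDegree_mul hp.ne_zero hr0] at this
    have := hp.natDegree_pos
    omega
  set π := p * p.reverse with hπ
  -- Fitting decomposition
  obtain ⟨N, hN⟩ := Filter.eventually_atTop.1 (LinearMap.eventually_isCompl_ker_pow_range_pow (aeval Tu π))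
  set n := N + 1
  have hcompl := hN n (Nat.le_succ N)
  rw [← map_pow] at hcompl
  have hrevN : ∀ m : ℕ, (π ^ m).reverse = π ^ m := by
    intro m
    induction m with
    | zero => rw [pow_zero, ← map_one C, reverse_C]
    | succ m ih => rw [pow_succ, reverse_mul_of_domain, ih, hπ, reverse_mul_of_domain, reverse_reverse' hp0,
        mul_comm p.reverse]
  set P := aeval (T : End F V) (π ^ n) with hP
  set K := U ⊓ LinearMap.ker P with hKdef
  have hKinv : Inv T K := fun u hu => ⟨hU u hu.1, by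
    show P (T u) = 0
    rw [show P (T u) = T (P u) from
      (LinearMap.congr_fun (aeval_commute (Commute.refl (T : End F V)) (π ^ n)).eq u).symm,
      show P u = 0 from hu.2, map_zero]⟩
  have hKnd : ND B K := by
    intro a ha hperp
    refine hnd a ha.1 fun v hv => ?_
    obtain ⟨a', ha', b', ⟨b, hb⟩, hab⟩ := Submodule.mem_sup.1
      (hcompl.sup_eq_top.ge (Submodule.mem_top (x := (⟨v, hv⟩ : U))))
    have e : v = (a' : V) + P (b : V) := by
      have := congrArg Subtype.val hab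
      rw [Submodule.coe_add, ← hb, hres] at this
      exact this.symm
    have ha'K : (a' : V) ∈ K := ⟨a'.2, by
      show P (a' : V) = 0
      rw [hP, ← hres, LinearMap.mem_ker.1 ha', Submodule.coe_zero]⟩
    rw [e, map_add, hperp _ ha'K, zero_add, hP, ← hI.adj',
      show aeval (T.symm : End F V) (π ^ n) a = 0 by rw [poly_symm_zero, hrevN]; exact ha.2,
      map_zero, LinearMap.zero_apply]
  have hKU : K = U := by
    refine hprime K inf_le_left hKinv hKnd fun hb => ?_
    have : aeval (T : End F V) r x₀ ∈ K := ⟨hU.poly_mem _ hx₀, by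
      show P _ = 0
      rw [hP, ← Module.End.mul_apply, ← map_mul, show π ^ n * r = π ^ N * p.reverse * μ by
        rw [hr, show n = N + 1 from rfl, pow_succ, hπ]; ring, map_mul, Module.End.mul_apply, hμ x₀ hx₀, map_zero]⟩
    rw [hb, Submodule.mem_bot] at this
    exact hrx₀ this
  have hPr : Prime' B T U μ p r :=
    ⟨hU, hnd, hμ, hμdvd, hp, hp0, hr, n, hμdvd _ fun u hu => by rw [← hKU] at hu; exact hu.2⟩
  by_cases hex : ∃ x ∈ U, B (aeval (T : End F V) r x) x ≠ 0 ∨ B (T (aeval (T : End F V) r x)) x ≠ 0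
  · obtain ⟨x, hx, hB⟩ := hex
    have hx0 : x ≠ 0 := fun e => by rcases hB with h | h <;> exact h (by simp [e])
    have hCnd := hPr.cyc_ND hI hx hB
    have hC : cyc T x = U := hprime _ (hU.cyc_le hx) (cyc_inv x) hCnd fun hb => hx0 (by
      have := self_mem_cyc (T := T) x
      rwa [hb, Submodule.mem_bot] at this)
    exact ⟨_, hC ▸ outL_cyc hI hCnd⟩
  push Not at hex
  obtain ⟨ε, k, hε, hpε, hk⟩ := hPr.exists_eigen hI hr0 hpm (hμdef ▸ minpoly.monic hμint) hex
  have hk1 : 1 ≤ k := by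
    rcases Nat.eq_zero_or_pos k with h | h
    · exact absurd (show IsUnit μ by rw [hk, h, pow_zero]; exact isUnit_one) (hμdef ▸ minpoly.not_isUnit F Tu)
    · exact h
  have hrk : r = p ^ (k - 1) := by
    refine mul_left_cancel₀ hp.ne_zero ?_
    rw [← hr, hk, ← pow_succ', Nat.sub_add_cancel hk1]
  refine outL_pair (ε := ε) (k := k) (x := x₀) hI hU hnd hε (fun u hu => ?_) hk1 (fun v hv => ?_) hx₀ ?_ hprime
  · rw [nn_eq, ← map_pow, ← hpε, ← hk, hμ u hu]
  · rw [nn_eq, ← map_pow, ← hpε, ← hrk]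
    exact (hex v hv).1
  · rw [nn_eq, ← map_pow, ← hpε, ← hrk]
    exact hrx₀

theorem exists_outL (hI : Iso B T) (U : Submodule F V) (hU : Inv T U) (hnd : ND B U) : ∃ L, OutL B T U L := by
  induction hN : finrank F U using Nat.strong_induction_on generalizing U with
  | _ N IH =>
    subst hN
    by_cases h0 : U = ⊥
    · subst h0
      exact ⟨⊥, ⟨le_rfl, by simp, fun u hu _ => hu, by simp, fun l hl _ => semi_eigen (Or.inl rfl) (by simp_all),
        fun _ u hu => semi_eigen (Or.inl rfl) (by simp_all)⟩⟩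
    by_cases hp : ∀ W : Submodule F V, W ≤ U → Inv T W → ND B W → W ≠ ⊥ → W = U
    · exact exists_outL_prime hI hU hnd h0 hp
    push Not at hp
    obtain ⟨W, hWU, hW, hWnd, hW0, hWne⟩ := hp
    let W' : Submodule F V := U ⊓ ⨅ v : W, LinearMap.ker ((LinearMap.flip B) (v : V))
    have hmem : ∀ u, u ∈ W' ↔ u ∈ U ∧ ∀ v ∈ W, B u v = 0 := fun u => by simp [W']
    have hdec : ∀ u ∈ U, ∃ a ∈ W, ∃ b ∈ W', u = a + b := by
      intro u hu
      obtain ⟨a, ha, ha'⟩ := exists_dual_of_ND hWnd ((LinearMap.flip B) u)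
      refine ⟨a, ha, u - a, (hmem _).2 ⟨U.sub_mem hu (hWU ha), fun v hv => ?_⟩, by abel⟩
      rw [hI.skew, map_sub, ha' v hv, LinearMap.flip_apply, sub_self, neg_zero]
    have hW' : Inv T W' := fun u hu => by
      rw [hmem] at hu ⊢
      exact ⟨hU u hu.1, fun v hv => by rw [← T.apply_symm_apply v, hI.iso]; exact hu.2 _ (hW.symm_mem hv)⟩
    have hW'nd : ND B W' := fun u hu hperp => by
      rw [hmem] at hu
      refine hnd u hu.1 fun v hv => ?_
      obtain ⟨a, ha, b, hb, rfl⟩ := hdec v hv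
      rw [map_add, hu.2 a ha, hperp b hb, add_zero]
    have hdisj : ∀ u ∈ W, u ∈ W' → u = 0 := fun u h1 h2 => hWnd u h1 ((hmem u).1 h2).2
    have hW'ne : W' ≠ U := fun e => hW0 ((Submodule.eq_bot_iff W).2 fun u hu => hdisj u hu (e.symm ▸ hWU hu))
    have hlt := Submodule.finrank_lt_finrank_of_lt (lt_of_le_of_ne hWU hWne)
    have hlt' := Submodule.finrank_lt_finrank_of_lt (lt_of_le_of_ne (inf_le_left : W' ≤ U) hW'ne)
    obtain ⟨L₁, h₁⟩ := IH _ hlt W hW hWnd rfl
    obtain ⟨L₂, h₂⟩ := IH _ hlt' W' hW' hW'nd rfl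
    have hort : ∀ a ∈ W, ∀ b ∈ W', B a b = 0 := fun a ha b hb => hI.swap (((hmem b).1 hb).2 a ha)
    have huniq : ∀ a ∈ W, ∀ b ∈ W', ∀ a' ∈ W, ∀ b' ∈ W', a + b = a' + b' → a = a' ∧ b = b' := by
      intro a ha b hb a' ha' b' hb' h
      have h1 : a - a' = b' - b := by
        linear_combination (norm := abel) h
      have h2 := hdisj _ (W.sub_mem ha ha') (h1 ▸ W'.sub_mem hb' hb)
      exact ⟨sub_eq_zero.1 h2, (sub_eq_zero.1 (h1.symm.trans h2)).symm⟩
    refine ⟨L₁ ⊔ L₂, ⟨sup_le (h₁.le.trans hWU) (h₂.le.trans inf_le_left), ?_, ?_, ?_, ?_, ?_⟩⟩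
    · intro a ha b hb
      obtain ⟨a₁, p₁, a₂, p₂, rfl⟩ := Submodule.mem_sup.1 ha
      obtain ⟨b₁, q₁, b₂, q₂, rfl⟩ := Submodule.mem_sup.1 hb
      simp only [map_add, LinearMap.add_apply, h₁.isot _ p₁ _ q₁, h₂.isot _ p₂ _ q₂,
        hort _ (h₁.le p₁) _ (h₂.le q₂), hI.swap (hort _ (h₁.le q₁) _ (h₂.le p₂)), add_zero]
    · intro u hu hperp
      obtain ⟨a, ha, b, hb, rfl⟩ := hdec u hu
      refine Submodule.add_mem_sup (h₁.max a ha fun l hl => ?_) (h₂.max b hb fun l hl => ?_)
      · have := hperp l (Submodule.mem_sup_left hl)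
        rwa [map_add, hort _ (h₁.le hl) _ hb, add_zero] at this
      · have := hperp l (Submodule.mem_sup_right hl)
        rwa [map_add, hI.swap (hort _ ha _ (h₂.le hl)), zero_add] at this
    · intro l hl
      obtain ⟨a, ha, b, hb, rfl⟩ := Submodule.mem_sup.1 hl
      rw [map_add, map_add, add_add_add_comm]
      exact Submodule.add_mem_sup (h₁.hinv a ha) (h₂.hinv b hb)
    · intro l hl hTl
      obtain ⟨a, ha, b, hb, rfl⟩ := Submodule.mem_sup.1 hl
      obtain ⟨a', ha', b', hb', he⟩ := Submodule.mem_sup.1 hTl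
      rw [map_add] at he
      obtain ⟨e1, e2⟩ := huniq a' (h₁.le ha') b' (h₂.le hb') _ (hW _ (h₁.le ha)) _ (hW' _ (h₂.le hb)) he
      exact semi_add (h₁.semi a ha (e1 ▸ ha')) (h₂.semi b hb (e2 ▸ hb'))
    · intro h u hu
      obtain ⟨a, ha, b, hb, rfl⟩ := hdec u hu
      refine semi_add (h₁.full (fun l hl => ?_) a ha) (h₂.full (fun l hl => ?_) b hb)
      · obtain ⟨a', ha', b', hb', he⟩ := Submodule.mem_sup.1 (h l (Submodule.mem_sup_left hl))
        have := (huniq a' (h₁.le ha') b' (h₂.le hb') _ (hW _ (h₁.le hl)) 0 (zero_mem _) (by rw [he, add_zero])).1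
        exact this ▸ ha'
      · obtain ⟨a', ha', b', hb', he⟩ := Submodule.mem_sup.1 (h l (Submodule.mem_sup_right hl))
        have := (huniq a' (h₁.le ha') b' (h₂.le hb') 0 (zero_mem _) _ (hW' _ (h₂.le hl)) (by rw [he, zero_add])).2
        exact this ▸ hb'

end CfsgLib.SpComm
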