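import Cfsg.Agent.Lib.SpComm.Small
import Cfsg.Agent.Lib.SpComm.Geometry

/-!
Certificates over the field with three elements.
-/

set_option autoImplicit false

namespace CfsgLib.SpComm

open Matrix Polynomial

local notation "𝔽₃" => ZMod 3

/-- The quadratic of order eight. -/
noncomputable def qf : (ZMod 3)[X] := X ^ 2 + X + 2
/-- The cubic. -/
noncomputable def qc : (ZMod 3)[X] := X ^ 3 + 2 * X + 1
/-- The quartic. -/
noncomputable def qd : (ZMod 3)[X] := X ^ 4 + X + 2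

theorem qf_deg : qf.natDegree = 2 := by rw [qf]; compute_degree!
theorem qc_deg : qc.natDegree = 3 := by rw [qc]; compute_degree!
theorem qd_deg : qd.natDegree = 4 := by rw [qd]; compute_degree!

theorem qf_rev : qf.reverse = 2 * X ^ 2 + X + 1 := by
  rw [Polynomial.reverse, qf_deg, qf,
    show (X ^ 2 + X + 2 : (ZMod 3)[X]) = C 1 * X ^ 2 + C 1 * X ^ 1 + C 2 * X ^ 0 by simp [map_ofNat],
    reflect_add, reflect_add, reflect_C_mul_X_pow, reflect_C_mul_X_pow, reflect_C_mul_X_pow, revAt_le le_rfl,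
    revAt_le (by norm_num), revAt_le (by norm_num)]
  simp [map_ofNat]
  ring

theorem qc_rev : qc.reverse = X ^ 3 + 2 * X ^ 2 + 1 := by
  rw [Polynomial.reverse, qc_deg, qc,
    show (X ^ 3 + 2 * X + 1 : (ZMod 3)[X]) = C 1 * X ^ 3 + C 2 * X ^ 1 + C 1 * X ^ 0 by simp [map_ofNat],
    reflect_add, reflect_add, reflect_C_mul_X_pow, reflect_C_mul_X_pow, reflect_C_mul_X_pow, revAt_le le_rfl,
    revAt_le (by norm_num), revAt_le (by norm_num)]
  simp [map_ofNat]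
  ring

theorem qd_rev : qd.reverse = 2 * X ^ 4 + X ^ 3 + 1 := by
  rw [Polynomial.reverse, qd_deg, qd,
    show (X ^ 4 + X + 2 : (ZMod 3)[X]) = C 1 * X ^ 4 + C 1 * X ^ 1 + C 2 * X ^ 0 by simp [map_ofNat],
    reflect_add, reflect_add, reflect_C_mul_X_pow, reflect_C_mul_X_pow, reflect_C_mul_X_pow, revAt_le le_rfl,
    revAt_le (by norm_num), revAt_le (by norm_num)]
  simp [map_ofNat]
  ring

theorem three_zero : (3 : (ZMod 3)[X]) = 0 := by
  rw [← map_ofNat C, show (OfNat.ofNat 3 : ZMod 3) = 0 from rfl, map_zero]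

theorem good_qf : Good qf := ⟨1 + 2 * X, 2 + 2 * X, by
  rw [qf_rev, qf]
  ring_nf
  reduce_mod_char⟩

theorem good_qc : Good qc := ⟨2 * X, 1 + X, by
  rw [qc_rev, qc]
  ring_nf
  reduce_mod_char⟩

theorem good_qd : Good qd := ⟨2 + 2 * X + X ^ 3, X ^ 2 + X ^ 3, by
  rw [qd_rev, qd]
  ring_nf
  reduce_mod_char⟩

theorem good_qfc : Good (qf * qc) :=
  good_qf.mul good_qc
    ⟨1 + X, 2, by rw [qc_rev, qf]; ring_nf; reduce_mod_char⟩
    ⟨X, 1 + X + X ^ 2, by rw [qf_rev, qc]; ring_nf; reduce_mod_char⟩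

theorem good_qfd : Good (qf * qd) :=
  good_qf.mul good_qd
    ⟨1 + 2 * X + X ^ 3, 2 + X, by rw [qd_rev, qf]; ring_nf; reduce_mod_char⟩
    ⟨2 + 2 * X, X ^ 2 + 2 * X ^ 3, by rw [qf_rev, qd]; ring_nf; reduce_mod_char⟩

theorem qf_irr : Irreducible qf := by
  refine irreducible_of_degree_le_three_of_not_isRoot (by rw [qf_deg]; simp) fun x => ?_
  rw [IsRoot, qf]
  simp only [eval_add, eval_pow, eval_X, eval_ofNat]
  revert x
  decide

theorem adm_cert_two : Adm (-1 : Matrix (Fin 2) (Fin 2) 𝔽₃) qf qf := by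
  let s : GL (Fin 2) 𝔽₃ := ⟨!![0, 1; 1, 2], !![1, 1; 1, 0], by decide, by decide⟩
  let t : GL (Fin 2) 𝔽₃ := ⟨!![2, 2; 2, 0], !![0, 2; 2, 1], by decide, by decide⟩
  let z : GL (Fin 2) 𝔽₃ := ⟨!![0, 1; 2, 0], !![0, 2; 1, 0], by decide, by decide⟩
  refine adm_transpose s t z (by decide) ?_ ?_ (by decide)
  all_goals
    simp only [qf, map_add, map_pow, aeval_X, map_ofNat]
    decide

theorem adm_cert_three : Adm (Matrix.diagonal ![2, 2, 1] : Matrix (Fin 3) (Fin 3) 𝔽₃) qc qc := by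
  let s : GL (Fin 3) 𝔽₃ := ⟨!![1, 1, 0; 2, 0, 1; 1, 1, 2], !![1, 2, 2; 0, 1, 1; 1, 0, 2], by decide, by decide⟩
  let t : GL (Fin 3) 𝔽₃ := ⟨!![2, 1, 2; 0, 2, 1; 2, 0, 2], !![2, 2, 0; 1, 0, 2; 1, 1, 2], by decide, by decide⟩
  let z : GL (Fin 3) 𝔽₃ := ⟨!![0, 0, 1; 1, 2, 0; 1, 1, 0], !![0, 2, 2; 0, 1, 2; 1, 0, 0], by decide, by decide⟩
  refine adm_transpose s t z (by decide) ?_ ?_ (by decide)
  all_goals
    simp only [qc, map_add, map_mul, map_pow, map_one, aeval_X, map_ofNat]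
    decide

theorem adm_cert_four : Adm (Matrix.diagonal ![2, 2, 1, 1] : Matrix (Fin 4) (Fin 4) 𝔽₃) qd qd := by
  let s : GL (Fin 4) 𝔽₃ := ⟨!![0, 2, 1, 0; 1, 1, 1, 1; 0, 1, 2, 1; 2, 1, 1, 0],
    !![1, 2, 1, 1; 0, 1, 2, 1; 1, 1, 2, 1; 1, 0, 1, 0], by decide, by decide⟩
  let t : GL (Fin 4) 𝔽₃ := ⟨!![2, 1, 1, 1; 0, 2, 2, 1; 2, 2, 2, 1; 2, 0, 1, 0],
    !![0, 1, 2, 0; 2, 2, 2, 2; 0, 1, 2, 1; 2, 1, 1, 0], by decide, by decide⟩
  let z : GL (Fin 4) 𝔽₃ := ⟨!![0, 0, 0, 1; 0, 2, 1, 1; 2, 1, 0, 1; 1, 1, 0, 2],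
    !![1, 0, 1, 2; 0, 0, 2, 2; 2, 1, 2, 2; 1, 0, 0, 0], by decide, by decide⟩
  refine adm_transpose s t z (by decide) ?_ ?_ (by decide)
  all_goals
    simp only [qd, map_add, map_pow, aeval_X, map_ofNat]
    decide

theorem coprime_of_deg {F : Type*} [Field F] {A B : F[X]} (hA : Irreducible A) (hB : Irreducible B)
    (h : A.natDegree ≠ B.natDegree) : IsCoprime A B := by
  refine hA.coprime_iff_not_dvd.2 fun hd => h ?_
  exact natDegree_eq_of_degree_eq (degree_eq_degree_of_associated (hA.associated_of_dvd hB hd))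

theorem natDegree_reverse {F : Type*} [Field F] {A : F[X]} (h : A.coeff 0 ≠ 0) :
    A.reverse.natDegree = A.natDegree := by
  rw [Polynomial.reverse_natDegree, natTrailingDegree_eq_zero.2 (Or.inr h), Nat.sub_zero]

/-- Splitting off two negative entries. -/
def stepEquiv (j a : ℕ) : Fin (2 * j) ⊕ (Fin 2 ⊕ Fin a) ≃ Fin (2 * (j + 1)) ⊕ Fin a :=
  (Equiv.sumAssoc (Fin (2 * j)) (Fin 2) (Fin a)).symm.trans
    ((finSumFinEquiv : Fin (2 * j) ⊕ Fin 2 ≃ Fin (2 * (j + 1))).sumCongr (Equiv.refl (Fin a)))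

theorem sgn_step {F : Type*} [Field F] (j a : ℕ) : sgn (F := F) (j + 1) a =
    reindex (stepEquiv j a) (stepEquiv j a) (fromBlocks (-1) 0 0 (fromBlocks (-1) 0 0 1)) := by
  apply (reindex (stepEquiv j a) (stepEquiv j a)).symm.injective
  rw [Equiv.symm_apply_apply]
  ext (i | i | i) (l | l | l) <;>
    simp [sgn, stepEquiv, Matrix.one_apply, Fin.ext_iff] <;> omega

theorem admGood_sgn_three (k a : ℕ) (hka : 1 ≤ k ∨ 2 ≤ a) : AdmGood (sgn (F := 𝔽₃) k a) := by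
  have hneg := adm_neg_even adm_cert_two
  rcases Nat.eq_zero_or_pos a with rfl | ha
  · exact ⟨qf, qf, good_qf, good_qf, (hneg k).sum (adm_empty _ _ _)⟩
  rcases Nat.eq_zero_or_pos k with rfl | hk
  · have : IsEmpty (Fin (2 * 0)) := Fin.isEmpty'
    obtain ⟨P, Q, hP, hQ, hA⟩ := admGood_one (F := 𝔽₃) (a := a) (by
      rw [Nat.card_zmod]
      have : 3 ≤ 3 ^ (a - 1) := Nat.le_self_pow (by omega) 3
      omega) ha
    exact ⟨P, Q, hP, hQ, (adm_empty _ _ _).sum hA⟩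
  obtain ⟨j, rfl⟩ : ∃ j, k = j + 1 := ⟨k - 1, by omega⟩
  rcases (by omega : a = 1 ∨ a = 2 ∨ 3 ≤ a) with rfl | rfl | ha3
  · have h := (((hneg j).mono (dvd_mul_right qf qc) (dvd_mul_right qf qc)).sum
      ((adm_cert_three.reindex (finSumFinEquiv (m := 2) (n := 1)).symm).mono (dvd_mul_left qc qf)
        (dvd_mul_left qc qf))).reindex (stepEquiv j 1)
    rw [show (reindex (finSumFinEquiv (m := 2) (n := 1)).symm (finSumFinEquiv (m := 2) (n := 1)).symm)
      (diagonal ![(2 : 𝔽₃), 2, 1]) = fromBlocks (-1) 0 0 1 by decide, ← sgn_step] at h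
    exact ⟨_, _, good_qfc, good_qfc, h⟩
  · have h := (((hneg j).mono (dvd_mul_right qf qd) (dvd_mul_right qf qd)).sum
      ((adm_cert_four.reindex (finSumFinEquiv (m := 2) (n := 2)).symm).mono (dvd_mul_left qd qf)
        (dvd_mul_left qd qf))).reindex (stepEquiv j 2)
    rw [show (reindex (finSumFinEquiv (m := 2) (n := 2)).symm (finSumFinEquiv (m := 2) (n := 2)).symm)
      (diagonal ![(2 : 𝔽₃), 2, 1, 1]) = fromBlocks (-1) 0 0 1 by decide, ← sgn_step] at h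
    exact ⟨_, _, good_qfd, good_qfd, h⟩
  · obtain ⟨S, s, hirr, hdeg, hS, hs⟩ := exists_singer 𝔽₃ (a := a) (by
      rw [Nat.card_zmod]
      have : 3 ≤ 3 ^ (a - 1) := Nat.le_self_pow (by omega) 3
      omega) ha
    have hS0 : S.coeff 0 ≠ 0 := by
      intro h0
      obtain ⟨r, hr⟩ := X_dvd_iff.2 h0
      have hu : IsUnit r := (hirr.isUnit_or_isUnit hr).resolve_left not_isUnit_X
      have := natDegree_eq_zero_of_isUnit hu
      rw [hr, natDegree_X_mul hu.ne_zero] at hdeg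
      omega
    have hf0 : qf.coeff 0 ≠ 0 := by
      rw [coeff_zero_eq_eval_zero, qf]
      simp only [eval_add, eval_pow, eval_X, eval_ofNat]
      decide
    have hfr := irreducible_reverse qf_irr hf0
    have hSr := irreducible_reverse hirr hS0
    refine ⟨qf * S, qf * S.reverse, good_qf.mul hS (coprime_of_deg qf_irr hSr ?_) (coprime_of_deg hirr hfr ?_),
      good_qf.mul ?_ (coprime_of_deg qf_irr ?_ ?_) (coprime_of_deg hSr hfr ?_),
      ((hneg _).mono (dvd_mul_right _ _) (dvd_mul_right _ _)).sum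
        ((adm_one_singer hs).mono (dvd_mul_left _ _) (dvd_mul_left _ _))⟩
    · rw [qf_deg, natDegree_reverse hS0, hdeg]; omega
    · rw [natDegree_reverse hf0, qf_deg, hdeg]; omega
    · show IsCoprime S.reverse S.reverse.reverse
      rw [reverse_reverse' hS0]
      exact IsCoprime.symm hS
    · rw [reverse_reverse' hS0]; exact hirr
    · rw [reverse_reverse' hS0, qf_deg, hdeg]; omega
    · rw [natDegree_reverse hf0, natDegree_reverse hS0, qf_deg, hdeg]; omega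

end CfsgLib.SpComm
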