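import Mathlib

/-!
Commutators in the symplectic group from a factorisation through the Levi subgroup of the Siegel
parabolic: if `A = s * t`, `s` and `t` have no two eigenvalues of product one and `lev t` is conjugate to
`(lev s)⁻¹`, then every `low S * lev A * upp T` is a commutator.
-/

set_option autoImplicit false

namespace CfsgLib.SpComm

open Matrix Polynomial

universe u v

variable {F : Type u} [Field F] {ι : Type v} [Fintype ι] [DecidableEq ι] {κ : Type*} [Fintype κ] [DecidableEq κ]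

/-- An element is a commutator. -/
def IsComm {G : Type*} [Group G] (g : G) : Prop := ∃ a b : G, g = a * b * a⁻¹ * b⁻¹

theorem IsComm.map {G H : Type*} [Group G] [Group H] (f : G →* H) {g : G} (h : IsComm g) : IsComm (f g) := by
  obtain ⟨a, b, rfl⟩ := h
  exact ⟨f a, f b, by simp⟩

theorem IsComm.conj {G : Type*} [Group G] {g : G} (h : IsComm g) (c : G) : IsComm (c * g * c⁻¹) :=
  h.map (MulAut.conj c).toMonoidHom

theorem isComm_of_conj {G : Type*} [Group G] {g : G} (c : G) (h : IsComm (c * g * c⁻¹)) : IsComm g := by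
  simpa [mul_assoc] using h.conj c⁻¹

/-- The Levi element `diag(M, M⁻ᵀ)`. -/
def lev (M : GL ι F) : symplecticGroup ι F :=
  ⟨fromBlocks (M : Matrix ι ι F) 0 0 ((M⁻¹ : GL ι F) : Matrix ι ι F)ᵀ, by
    rw [SymplecticGroup.fromBlocks_mem_iff]
    refine ⟨by simp, by simp, ?_⟩
    rw [← transpose_mul, ← Units.val_mul, inv_mul_cancel]
    simp⟩

theorem lev_mul (M N : GL ι F) : lev (M * N) = lev M * lev N := by
  refine Subtype.ext ?_
  simp [lev, fromBlocks_multiply, transpose_mul, _root_.mul_inv_rev]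

/-- `lev` as a homomorphism. -/
def levHom : GL ι F →* symplecticGroup ι F := MonoidHom.mk' lev lev_mul

theorem lev_inv (M : GL ι F) : lev M⁻¹ = (lev M)⁻¹ := map_inv levHom M

theorem lev_one : lev (1 : GL ι F) = 1 := map_one levHom

/-- The lower unipotent element. -/
def low (S : Matrix ι ι F) (h : Sᵀ = S) : symplecticGroup ι F :=
  ⟨fromBlocks 1 0 S 1, by rw [SymplecticGroup.fromBlocks_mem_iff]; simp [h]⟩

/-- The upper unipotent element. -/
def upp (S : Matrix ι ι F) (h : Sᵀ = S) : symplecticGroup ι F :=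
  ⟨fromBlocks 1 S 0 1, by rw [SymplecticGroup.fromBlocks_mem_iff]; simp [h]⟩

/-- Surjectivity of a twisting operator on symmetric matrices. -/
theorem exists_sub_eq [Finite F] (a b : Matrix ι ι F) (hab : aᵀ = b)
    (h : ∀ X : Matrix ι ι F, a * X * b = X → X = 0) {S : Matrix ι ι F} (hS : Sᵀ = S) :
    ∃ W : Matrix ι ι F, Wᵀ = W ∧ W - a * W * b = S := by
  let φ : {X : Matrix ι ι F // Xᵀ = X} → {X : Matrix ι ι F // Xᵀ = X} := fun X =>
    ⟨X.1 - a * X.1 * b, by
      rw [transpose_sub, transpose_mul, transpose_mul, X.2, ← hab, transpose_transpose, Matrix.mul_assoc]⟩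
  have hφ : Function.Injective φ := fun X Y e => by
    have e' : X.1 - a * X.1 * b = Y.1 - a * Y.1 * b := congrArg Subtype.val e
    refine Subtype.ext (sub_eq_zero.1 (h _ ?_))
    rw [Matrix.mul_sub, Matrix.sub_mul]
    linear_combination (norm := abel) (-1 : ℤ) • e'
  obtain ⟨W, hW⟩ := Finite.surjective_of_injective hφ ⟨S, hS⟩
  exact ⟨W.1, W.2, congrArg Subtype.val hW⟩

/-- No two eigenvalues of product one, read on the polynomial `P` killing the matrix. -/
def Good (P : F[X]) : Prop := IsCoprime P P.reverse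

theorem Good.mul {P Q : F[X]} (hP : Good P) (hQ : Good Q) (h1 : IsCoprime P Q.reverse)
    (h2 : IsCoprime Q P.reverse) : Good (P * Q) := by
  unfold Good at *
  rw [reverse_mul_of_domain]
  exact IsCoprime.mul_left (hP.mul_right h1) (h2.mul_right hQ)

omit [Fintype κ] [DecidableEq κ] in
theorem aeval_transpose (s : Matrix ι ι F) (f : F[X]) : aeval sᵀ f = (aeval s f)ᵀ := by
  induction f using Polynomial.induction_on with
  | C a => rw [aeval_C, aeval_C, Algebra.algebraMap_eq_smul_one, transpose_smul, transpose_one]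
  | add p q hp hq => rw [map_add, map_add, transpose_add, hp, hq]
  | monomial n a _ =>
    simp [Algebra.algebraMap_eq_smul_one, transpose_pow]

theorem aeval_reflect {R : Type*} [Ring R] [Algebra F R] (x : Rˣ) (N : ℕ) (f : F[X]) (hf : f.natDegree ≤ N) :
    aeval (x : R) (reflect N f) = (x : R) ^ N * aeval ((x⁻¹ : Rˣ) : R) f := by
  refine Polynomial.induction_with_natDegree_le
    (fun f => aeval (x : R) (reflect N f) = (x : R) ^ N * aeval ((x⁻¹ : Rˣ) : R) f) N ?_ ?_ ?_ f hf
  · simp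
  · intro n r _ hn
    rw [reflect_C_mul_X_pow, revAt_le hn, map_mul, map_mul, map_pow, map_pow, aeval_X, aeval_X, aeval_C, aeval_C]
    obtain ⟨d, rfl⟩ := Nat.exists_eq_add_of_le hn
    rw [Nat.add_sub_cancel_left, ← mul_assoc, ← Algebra.commutes r ((x : R) ^ (n + d)), mul_assoc]
    congr 1
    rw [add_comm n d, pow_add, mul_assoc, ← Units.val_pow_eq_pow_val x n, ← Units.val_pow_eq_pow_val x⁻¹ n,
      ← Units.val_mul, inv_pow, mul_inv_cancel, Units.val_one, mul_one]
  · intro f g _ _ hf hg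
    rw [reflect_add, map_add, map_add, hf, hg, mul_add]

theorem fix_of_good {P : F[X]} (hP : Good P) {M : GL ι F} (hM : aeval (M : Matrix ι ι F) P = 0)
    {X : Matrix ι ι F} (hX : (M : Matrix ι ι F)ᵀ * X * M = X) : X = 0 := by
  obtain ⟨a, b, hab⟩ := hP
  have h1 : aeval (M : Matrix ι ι F) b * aeval (M : Matrix ι ι F) P.reverse = 1 := by
    have := congrArg (aeval (M : Matrix ι ι F)) hab
    simpa [map_add, map_mul, hM] using this
  have hu : IsUnit (aeval ((M⁻¹ : GL ι F) : Matrix ι ι F) P) := by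
    have h2 : IsUnit (aeval (M : Matrix ι ι F) P.reverse) := .of_mul_eq_one_right _ h1
    rw [Polynomial.reverse, aeval_reflect M _ P le_rfl, ← Units.val_pow_eq_pow_val, Units.isUnit_units_mul] at h2
    exact h2
  have key : ∀ f : F[X], aeval (M : Matrix ι ι F)ᵀ f * X = X * aeval ((M⁻¹ : GL ι F) : Matrix ι ι F) f := by
    have h0 : (M : Matrix ι ι F)ᵀ * X = X * ((M⁻¹ : GL ι F) : Matrix ι ι F) := by
      conv_rhs => rw [← hX, Matrix.mul_assoc, ← Units.val_mul, mul_inv_cancel, Units.val_one, Matrix.mul_one]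
    intro f
    induction f using Polynomial.induction_on with
    | C c => rw [aeval_C, aeval_C]; exact Algebra.commutes c X
    | add p q hp hq => rw [map_add, map_add, add_mul, mul_add, hp, hq]
    | monomial n c ih =>
      rw [pow_succ, ← mul_assoc, map_mul _ (C c * Polynomial.X ^ n), map_mul _ (C c * Polynomial.X ^ n), aeval_X,
        aeval_X, mul_assoc, h0, ← mul_assoc, ih, mul_assoc]
  have := key P
  rw [aeval_transpose, hM, transpose_zero, zero_mul, eq_comm] at this
  obtain ⟨w, hw⟩ := hu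
  rw [← hw, Units.mul_left_eq_zero] at this
  exact this

/-- The pair `(P, Q)` certifies `A`. -/
def Adm (A : Matrix ι ι F) (P Q : F[X]) : Prop :=
  ∃ (s t : GL ι F) (z : symplecticGroup ι F), (s : Matrix ι ι F) * t = A ∧ aeval (s : Matrix ι ι F) P = 0 ∧
    aeval (t : Matrix ι ι F) Q = 0 ∧ z * (lev s)⁻¹ = lev t * z

theorem Adm.mono {A : Matrix ι ι F} {P Q P' Q' : F[X]} (h : Adm A P Q) (hP : P ∣ P') (hQ : Q ∣ Q') :
    Adm A P' Q' := by
  obtain ⟨s, t, z, h1, h2, h3, h4⟩ := h
  obtain ⟨a, rfl⟩ := hP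
  obtain ⟨b, rfl⟩ := hQ
  exact ⟨s, t, z, h1, by rw [map_mul, h2, zero_mul], by rw [map_mul, h3, zero_mul], h4⟩

/-- The main reduction. -/
theorem isComm_of_adm [Finite F] {A : Matrix ι ι F} {P Q : F[X]} (h : Adm A P Q) (hP : Good P) (hQ : Good Q)
    {g : symplecticGroup ι F} {S T : Matrix ι ι F} (hS : Sᵀ = S) (hT : Tᵀ = T) {M : GL ι F}
    (hM : (M : Matrix ι ι F) = A) (hg : g = low S hS * lev M * upp T hT) : IsComm g := by
  obtain ⟨s, t, z, h1, h2, h3, h4⟩ := h
  have hMst : M = s * t := Units.ext (by rw [hM, Units.val_mul, h1])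
  obtain ⟨W, hW, hW'⟩ := exists_sub_eq (((s⁻¹ : GL ι F) : Matrix ι ι F)ᵀ) ((s⁻¹ : GL ι F) : Matrix ι ι F)
    (transpose_transpose _) (fun X hX => fix_of_good hP h2 (by
      conv_lhs => rw [← hX]
      simp only [← Matrix.mul_assoc]
      rw [← transpose_mul, ← Units.val_mul, inv_mul_cancel, Matrix.mul_assoc, ← Units.val_mul, inv_mul_cancel]
      simp)) hS
  obtain ⟨W', hWt, hW''⟩ := exists_sub_eq ((t⁻¹ : GL ι F) : Matrix ι ι F) (((t⁻¹ : GL ι F) : Matrix ι ι F)ᵀ)
    rfl (fun X hX => by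
      have h3' : aeval (t : Matrix ι ι F)ᵀ Q = 0 := by rw [aeval_transpose, h3, transpose_zero]
      let t' : GL ι F := ⟨(t : Matrix ι ι F)ᵀ, ((t⁻¹ : GL ι F) : Matrix ι ι F)ᵀ,
        by rw [← transpose_mul, ← Units.val_mul, inv_mul_cancel, Units.val_one, transpose_one],
        by rw [← transpose_mul, ← Units.val_mul, mul_inv_cancel, Units.val_one, transpose_one]⟩
      refine fix_of_good hQ (M := t') h3' ?_
      show (t : Matrix ι ι F)ᵀᵀ * X * (t : Matrix ι ι F)ᵀ = X
      rw [transpose_transpose]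
      conv_lhs => rw [← hX]
      simp only [← Matrix.mul_assoc]
      rw [← Units.val_mul, mul_inv_cancel, Matrix.mul_assoc, ← transpose_mul, ← Units.val_mul, mul_inv_cancel]
      simp) (S := -T) (by rw [transpose_neg, hT])
  have e1 : low W hW * lev s = low S hS * lev s * low W hW := by
    refine Subtype.ext ?_
    simp only [low, lev, Submonoid.coe_mul, fromBlocks_multiply, mul_zero, zero_mul, add_zero, zero_add, one_mul,
      mul_one]
    congr 1
    rw [← hW', Matrix.sub_mul, Matrix.mul_assoc _ ((s⁻¹ : GL ι F) : Matrix ι ι F), ← Units.val_mul,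
      inv_mul_cancel, Units.val_one, Matrix.mul_one, sub_add_cancel]
  have e2 : upp W' hWt * lev t = lev t * upp T hT * upp W' hWt := by
    refine Subtype.ext ?_
    simp only [upp, lev, Submonoid.coe_mul, fromBlocks_multiply, mul_zero, zero_mul, add_zero, zero_add, one_mul,
      mul_one]
    congr 1
    rw [show T = -(W' - ((t⁻¹ : GL ι F) : Matrix ι ι F) * W' * ((t⁻¹ : GL ι F) : Matrix ι ι F)ᵀ) by
        rw [hW'', neg_neg], neg_sub, Matrix.mul_sub]
    simp only [← Matrix.mul_assoc]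
    rw [← Units.val_mul, mul_inv_cancel, Units.val_one, Matrix.one_mul]
    abel
  set x := low W hW
  set y := upp W' hWt
  refine ⟨x * lev s * x⁻¹, y * z * x⁻¹, ?_⟩
  have e4 : lev t = z * (lev s)⁻¹ * z⁻¹ := by rw [h4, mul_assoc, mul_inv_cancel, mul_one]
  calc g = low S hS * lev s * (lev t * upp T hT) := by rw [hg, hMst, lev_mul]; group
    _ = (x * lev s * x⁻¹) * (y * lev t * y⁻¹) := by
      rw [show low S hS * lev s = x * lev s * x⁻¹ by rw [e1]; group,
        show lev t * upp T hT = y * lev t * y⁻¹ by rw [e2]; group]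
    _ = _ := by rw [e4]; group

/-- Block sums of symplectic matrices. -/
def spSum : symplecticGroup ι F × symplecticGroup κ F →* symplecticGroup (ι ⊕ κ) F :=
  MonoidHom.mk' (fun p => ⟨(fromBlocks (p.1 : Matrix (ι ⊕ ι) (ι ⊕ ι) F) 0 0 (p.2 : Matrix (κ ⊕ κ) (κ ⊕ κ) F)).reindex
      (Equiv.sumSumSumComm ι ι κ κ) (Equiv.sumSumSumComm ι ι κ κ), by
    have hJ : J (ι ⊕ κ) F = (fromBlocks (J ι F) 0 0 (J κ F)).reindex
        (Equiv.sumSumSumComm ι ι κ κ) (Equiv.sumSumSumComm ι ι κ κ) := by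
      ext ((i | i) | (i | i)) ((j | j) | (j | j)) <;> simp [Matrix.J, Matrix.one_apply]
    rw [SymplecticGroup.mem_iff, hJ]
    simp only [reindex_apply, transpose_submatrix, submatrix_mul_equiv, fromBlocks_transpose, transpose_zero,
      fromBlocks_multiply, Matrix.mul_zero, Matrix.zero_mul, add_zero, zero_add, SymplecticGroup.mem_iff.1 p.1.2,
      SymplecticGroup.mem_iff.1 p.2.2]⟩)
    fun p q => Subtype.ext (by simp [submatrix_mul_equiv, fromBlocks_multiply])

/-- Block sums of invertible matrices. -/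
def glSum : GL ι F × GL κ F →* GL (ι ⊕ κ) F :=
  MonoidHom.toHomUnits
    { toFun := fun p => fromBlocks (p.1 : Matrix ι ι F) 0 0 (p.2 : Matrix κ κ F)
      map_one' := by simp
      map_mul' := fun p q => by simp [fromBlocks_multiply] }

theorem coe_glSum (M : GL ι F) (N : GL κ F) :
    (glSum (M, N) : Matrix (ι ⊕ κ) (ι ⊕ κ) F) = fromBlocks (M : Matrix ι ι F) 0 0 (N : Matrix κ κ F) := rfl

theorem spSum_lev (M : GL ι F) (N : GL κ F) : spSum (lev M, lev N) = lev (glSum (M, N)) := by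
  refine Subtype.ext ?_
  show (fromBlocks _ _ _ _).reindex _ _ = _
  have h : ((glSum (M, N))⁻¹ : GL (ι ⊕ κ) F) = glSum (M⁻¹, N⁻¹) := (map_inv glSum (M, N)).symm
  simp only [lev, h]
  ext ((i | i) | (i | i)) ((j | j) | (j | j)) <;> simp [coe_glSum, fromBlocks_transpose]

theorem Adm.sum {A : Matrix ι ι F} {B : Matrix κ κ F} {P Q : F[X]} (hA : Adm A P Q) (hB : Adm B P Q) :
    Adm (fromBlocks A 0 0 B) P Q := by
  obtain ⟨s, t, z, h1, h2, h3, h4⟩ := hA
  obtain ⟨s', t', z', h1', h2', h3', h4'⟩ := hB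
  have key : ∀ (u : Matrix ι ι F) (w : Matrix κ κ F) (f : F[X]),
      aeval (fromBlocks u 0 0 w) f = fromBlocks (aeval u f) 0 0 (aeval w f) := by
    intro u w f
    induction f using Polynomial.induction_on with
    | C a => simp [aeval_C, Algebra.algebraMap_eq_smul_one, ← fromBlocks_one, fromBlocks_smul]
    | add p q hp hq => rw [map_add, map_add, map_add, hp, hq, fromBlocks_add]; simp
    | monomial n a ih =>
      rw [pow_succ, ← mul_assoc, map_mul, map_mul _ _ X, map_mul _ _ X, ih, aeval_X, aeval_X, aeval_X,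
        fromBlocks_multiply]
      simp
  refine ⟨glSum (s, s'), glSum (t, t'), spSum (z, z'), ?_, ?_, ?_, ?_⟩
  · rw [coe_glSum, coe_glSum, fromBlocks_multiply]; simp [h1, h1']
  · rw [coe_glSum, key, h2, h2', fromBlocks_zero]
  · rw [coe_glSum, key, h3, h3', fromBlocks_zero]
  · rw [← spSum_lev, ← spSum_lev, ← map_inv, ← map_mul, ← map_mul]
    exact congrArg spSum (Prod.ext h4 h4')

/-- Relabelling of symplectic matrices. -/
def spMap (e : ι ≃ κ) : symplecticGroup ι F →* symplecticGroup κ F :=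
  MonoidHom.mk' (fun g => ⟨(g : Matrix (ι ⊕ ι) (ι ⊕ ι) F).reindex (e.sumCongr e) (e.sumCongr e), by
    have hJ : J κ F = (J ι F).reindex (e.sumCongr e) (e.sumCongr e) := by
      ext (i | i) (j | j) <;> simp [Matrix.J, Matrix.one_apply]
    rw [SymplecticGroup.mem_iff, hJ]
    simp only [reindex_apply, transpose_submatrix, submatrix_mul_equiv, SymplecticGroup.mem_iff.1 g.2]⟩)
    fun g h => Subtype.ext (by simp [submatrix_mul_equiv])

theorem Adm.reindex {A : Matrix ι ι F} {P Q : F[X]} (h : Adm A P Q) (e : ι ≃ κ) :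
    Adm (A.reindex e e) P Q := by
  obtain ⟨s, t, z, h1, h2, h3, h4⟩ := h
  let r : Matrix ι ι F ≃ₐ[F] Matrix κ κ F := Matrix.reindexAlgEquiv F F e
  have hlev : ∀ M : GL ι F, spMap e (lev M) = lev (Units.mapEquiv r.toMulEquiv M) := fun M => Subtype.ext (by
    show (fromBlocks _ _ _ _).reindex _ _ = _
    simp only [lev]
    ext (i | i) (j | j) <;> simp [r, ← map_inv])
  refine ⟨Units.mapEquiv r.toMulEquiv s, Units.mapEquiv r.toMulEquiv t, spMap e z, ?_, ?_, ?_, ?_⟩
  · show r (s : Matrix ι ι F) * r (t : Matrix ι ι F) = _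
    rw [← map_mul, h1]; rfl
  · show aeval (r (s : Matrix ι ι F)) P = 0
    rw [aeval_algHom_apply, h2, map_zero]
  · show aeval (r (t : Matrix ι ι F)) Q = 0
    rw [aeval_algHom_apply, h3, map_zero]
  · rw [← hlev, ← hlev, ← map_inv, ← map_mul, ← map_mul, h4]

/-- `lev (M⁻ᵀ)` is conjugate to `lev M` by `J`. -/
theorem symJ_lev (M : GL ι F) {N : GL ι F} (hN : (N : Matrix ι ι F) = (M : Matrix ι ι F)ᵀ) :
    SymplecticGroup.symJ ι F * (lev M)⁻¹ = lev N * SymplecticGroup.symJ ι F := by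
  have hN' : ((N⁻¹ : GL ι F) : Matrix ι ι F) = ((M⁻¹ : GL ι F) : Matrix ι ι F)ᵀ := by
    apply Units.inv_eq_of_mul_eq_one_right
    rw [hN, ← transpose_mul, ← Units.val_mul, inv_mul_cancel, Units.val_one, transpose_one]
  rw [← lev_inv]
  refine Subtype.ext ?_
  simp [lev, Matrix.J, fromBlocks_multiply, hN, hN', neg_mul, mul_neg]

/-- Certificates: `A = s * t` with `t` similar to `sᵀ`. -/
theorem adm_transpose (s t z : GL ι F) {A : Matrix ι ι F} {P Q : F[X]} (hA : (s : Matrix ι ι F) * t = A)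
    (hs : aeval (s : Matrix ι ι F) P = 0) (ht : aeval (t : Matrix ι ι F) Q = 0)
    (hz : (z : Matrix ι ι F) * (s : Matrix ι ι F)ᵀ = t * z) : Adm A P Q := by
  let N : GL ι F := ⟨(s : Matrix ι ι F)ᵀ, ((s⁻¹ : GL ι F) : Matrix ι ι F)ᵀ,
    by rw [← transpose_mul, ← Units.val_mul, inv_mul_cancel, Units.val_one, transpose_one],
    by rw [← transpose_mul, ← Units.val_mul, mul_inv_cancel, Units.val_one, transpose_one]⟩
  refine ⟨s, t, lev z * SymplecticGroup.symJ ι F, hA, hs, ht, ?_⟩
  have e : z * N = t * z := Units.ext hz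
  rw [mul_assoc, symJ_lev s (N := N) rfl, ← mul_assoc, ← mul_assoc, ← lev_mul, ← lev_mul, e]

/-- Certificates: `A = s * t` with `t` similar to `s⁻¹`. -/
theorem adm_inv (s t z : GL ι F) {A : Matrix ι ι F} {P Q : F[X]} (hA : (s : Matrix ι ι F) * t = A)
    (hs : aeval (s : Matrix ι ι F) P = 0) (ht : aeval (t : Matrix ι ι F) Q = 0)
    (hz : z * s⁻¹ = t * z) : Adm A P Q := by
  refine ⟨s, t, lev z, hA, hs, ht, ?_⟩
  rw [← lev_inv, ← lev_mul, ← lev_mul, hz]

end CfsgLib.SpComm
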