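import Cfsg.Agent.Lib.SpComm.Geometry

/-!
A symplectic frame adapted to an isometry: the lower left block is symmetric and the upper left block is
a sign matrix outside its support.
-/

set_option autoImplicit false
set_option linter.unusedSectionVars false

namespace CfsgLib.SpComm

open Matrix

variable {F : Type*} [Field F]

/-- A basis of a Lagrangian adapted to the isometry. -/
theorem exists_lag_basis {V : Type*} [AddCommGroup V] [Module F V] [FiniteDimensional F V]
    {B : LinearMap.BilinForm F V} {T : V ≃ₗ[F] V} (hI : Iso B T) {L : Submodule F V} (hL : OutL B T ⊤ L) :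
    ∃ (r d : ℕ) (e : Fin r ⊕ Fin d → V) (ε : Fin r → F) (Gd : Matrix (Fin d) (Fin d) F),
      LinearIndependent F e ∧ (∀ i, e i ∈ L) ∧ r + d = Module.finrank F L ∧
      (∀ i j, B (T (e i)) (e j) = B (T (e j)) (e i)) ∧
      (∀ i, (ε i = 1 ∨ ε i = -1) ∧ T (e (.inl i)) = ε i • e (.inl i)) ∧
      (∀ i j, Gd i j = B (T (e (.inr i))) (e (.inr j))) ∧ IsUnit Gd.det ∧
      ((2 : F) = 0 ∨ ∃ v, Gd = Matrix.diagonal v) ∧
      (d = 0 → ∀ l ∈ L, T l ∈ L) := by
  classical
  set W : Submodule F V := L ⊓ L.comap (T : V →ₗ[F] V) with hWdef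
  have hWL : W ≤ L := inf_le_left
  -- symmetry
  have hsym : ∀ a ∈ L, ∀ b ∈ L, B (T a) b = B (T b) a := by
    intro a ha b hb
    have h1 : B a (T.symm b) = B (T a) b := by
      conv_rhs => rw [← T.apply_symm_apply b, hI.iso]
    have h2 := hL.isot a ha _ (hL.hinv b hb)
    rw [map_add, h1, hI.skew a (T b)] at h2
    linear_combination h2
  have hrad : ∀ v ∈ L, (∀ b ∈ L, B (T v) b = 0) → v ∈ W := fun v hv h =>
    ⟨hv, hL.max _ Submodule.mem_top fun l hl => hI.swap (h l hl)⟩
  -- eigenvectors span `W`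
  set S : Set V := {v | v ∈ W ∧ (T v = v ∨ T v = -v)} with hSdef
  have hS : Submodule.span F S = W := by
    refine le_antisymm (Submodule.span_le.2 fun v hv => hv.1) fun v hv => ?_
    obtain ⟨a, b, ha, hb, hab⟩ := hL.semi v hv.1 hv.2
    have hTv : T v ∈ W := by
      refine ⟨hv.2, ?_⟩
      show T (T v) ∈ L
      rw [hab, map_add, map_add, ha, ha, hb, map_neg, hb, neg_neg, ← hab]
      exact hv.1
    by_cases h2 : (2 : F) = 0
    · refine Submodule.subset_span ⟨hv, Or.inl ?_⟩
      rw [hab, map_add, ha, hb]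
      have : b + b = 0 := by rw [← two_smul F b, h2, zero_smul]
      rw [eq_neg_of_add_eq_zero_left this, neg_neg]
      exact (congrArg (a + ·) (eq_neg_of_add_eq_zero_left this))
    · have e1 : a = (2 : F)⁻¹ • (v + T v) := by
        rw [hab, map_add, ha, hb, show a + b + (a + -b) = (2 : F) • a by rw [two_smul]; abel, smul_smul,
          inv_mul_cancel₀ h2, one_smul]
      have e2 : b = (2 : F)⁻¹ • (v - T v) := by
        rw [hab, map_add, ha, hb, show a + b - (a + -b) = (2 : F) • b by rw [two_smul]; abel, smul_smul,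
          inv_mul_cancel₀ h2, one_smul]
      rw [hab]
      exact add_mem (Submodule.subset_span ⟨e1 ▸ W.smul_mem _ (W.add_mem hv hTv), Or.inl ha⟩)
        (Submodule.subset_span ⟨e2 ▸ W.smul_mem _ (W.sub_mem hv hTv), Or.inr hb⟩)
  obtain ⟨t, hts, htspan, hti⟩ := exists_linearIndependent F S
  rw [hS] at htspan
  letI : Fintype t := (hti.setFinite).fintype
  set r := Fintype.card t
  let σ : Fin r ≃ t := (Fintype.equivFin t).symm
  let w : Fin r → V := fun i => (σ i : V)
  have hw : LinearIndependent F w := hti.comp σ σ.injective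
  have hwspan : Submodule.span F (Set.range w) = W := by
    rw [show w = (fun x : t => (x : V)) ∘ σ from rfl, Set.range_comp, σ.surjective.range_eq, Set.image_univ,
      Subtype.range_coe, htspan]
  have hwε : ∀ i, ∃ ε : F, (ε = 1 ∨ ε = -1) ∧ T (w i) = ε • w i := fun i => by
    rcases (hts (σ i).2).2 with h | h
    · exact ⟨1, Or.inl rfl, by rw [one_smul]; exact h⟩
    · exact ⟨-1, Or.inr rfl, by rw [neg_one_smul]; exact h⟩
  choose ε hε using hwε
  -- a complement
  obtain ⟨D₀, hD₀⟩ := Submodule.exists_isCompl W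
  set D : Submodule F V := L ⊓ D₀
  have hdisj : Disjoint W D := hD₀.disjoint.mono_right inf_le_right
  have hsup : W ⊔ D = L := by
    show W ⊔ L ⊓ D₀ = L
    rw [inf_comm L D₀, ← sup_inf_assoc_of_le D₀ hWL, hD₀.sup_eq_top, top_inf_eq]
  let β : LinearMap.BilinForm F D :=
    LinearMap.compl₁₂ B ((T : V →ₗ[F] V).comp D.subtype) D.subtype
  have hβ : ∀ a b : D, β a b = B (T (a : V)) (b : V) := fun a b => rfl
  obtain ⟨bD, hdiag⟩ : ∃ bD : Module.Basis (Fin (Module.finrank F D)) F D,
      (2 : F) = 0 ∨ ∀ i j, i ≠ j → β (bD i) (bD j) = 0 := by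
    by_cases h2 : (2 : F) = 0
    · exact ⟨Module.finBasis F D, Or.inl h2⟩
    · haveI : Invertible (2 : F) := invertibleOfNonzero h2
      have hs : LinearMap.IsSymm β := ⟨fun a b => by
        simp only [RingHom.id_apply, hβ]
        exact hsym _ a.2.1 _ b.2.1⟩
      obtain ⟨v, hv⟩ := LinearMap.BilinForm.exists_orthogonal_basis hs
      exact ⟨v, Or.inr fun i j hij => hv hij⟩
  let d := Module.finrank F D
  let u : Fin d → V := fun i => (bD i : V)
  have hu : LinearIndependent F u := bD.linearIndependent.map' D.subtype D.ker_subtype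
  have huspan : Submodule.span F (Set.range u) = D := by
    rw [show u = D.subtype ∘ bD from rfl, Set.range_comp, Submodule.span_image, bD.span_eq, Submodule.map_top,
      Submodule.range_subtype]
  have heL : ∀ i, Sum.elim w u i ∈ L := by
    rintro (i | i)
    · exact hWL (hwspan ▸ Submodule.subset_span ⟨i, rfl⟩)
    · exact (bD i).2.1
  have hcard : r + d = Module.finrank F L := by
    have h1 : Module.finrank F W = r := by rw [← hwspan, finrank_span_eq_card hw, Fintype.card_fin]
    rw [← hsup, ← h1]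
    have := Submodule.finrank_sup_add_finrank_inf_eq W D
    rw [hdisj.eq_bot, finrank_bot, add_zero] at this
    exact this.symm
  refine ⟨r, d, Sum.elim w u, ε, Matrix.of fun i j => B (T (u i)) (u j),
    hw.sum_type hu (by rw [hwspan, huspan]; exact hdisj), heL, hcard, fun i j => hsym _ (heL i) _ (heL j), hε,
    fun i j => rfl, ?_, ?_, fun hd l hl => ?_⟩
  · rw [isUnit_iff_ne_zero]
    intro hdet
    obtain ⟨c, hc0, hc⟩ := Matrix.exists_mulVec_eq_zero_iff.2 hdet
    set v : D := ∑ j, c j • bD j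
    have hvW : (v : V) ∈ W := by
      refine hrad _ v.2.1 fun b hb => ?_
      rw [← hsup, ← hwspan, ← huspan, ← Submodule.span_union, ← Set.Sum.elim_range] at hb
      induction hb using Submodule.span_induction with
      | mem x hx =>
        obtain ⟨i | i, rfl⟩ := hx
        · rw [hsym _ v.2.1 _ (heL _)]
          show B (T (w i)) (v : V) = 0
          rw [(hε i).2, map_smul, LinearMap.smul_apply, hL.isot (w i) (heL (.inl i)) _ v.2.1, smul_zero]
        · rw [hsym _ v.2.1 _ (heL _)]
          have := congrFun hc i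
          rw [Pi.zero_apply] at this
          rw [← this]
          simp [v, u, Matrix.mulVec, dotProduct, map_sum, map_smul, mul_comm]
      | zero => simp
      | add x y _ _ hx hy => simp [hx, hy]
      | smul a x _ hx => simp [hx]
    have : v = 0 := Subtype.ext ((Submodule.disjoint_def.1 hdisj) _ hvW v.2)
    exact hc0 (funext fun j => Fintype.linearIndependent_iff.1 bD.linearIndependent c this j)
  · exact hdiag.imp id fun h => ⟨fun i => B (T (u i)) (u i), by
      ext i j
      by_cases hij : i = j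
      · subst hij; simp
      · rw [Matrix.diagonal_apply_ne _ hij, Matrix.of_apply, ← h i j hij]; rfl⟩
  · have hD : D = ⊥ := Submodule.finrank_eq_zero.1 hd
    have : W = L := by rw [← hsup, hD, sup_bot_eq]
    exact (this.ge hl).2

variable {m : ℕ}

/-- The standard alternating form. -/
noncomputable def stdForm (F : Type*) [Field F] (m : ℕ) : LinearMap.BilinForm F (Fin m ⊕ Fin m → F) :=
  Matrix.toBilin' (J (Fin m) F)

theorem stdForm_apply (v w : Fin m ⊕ Fin m → F) : stdForm F m v w = v ⬝ᵥ J (Fin m) F *ᵥ w :=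
  Matrix.toBilin'_apply' _ v w

/-- The linear map of a symplectic matrix. -/
noncomputable def toV (g : symplecticGroup (Fin m) F) : (Fin m ⊕ Fin m → F) ≃ₗ[F] (Fin m ⊕ Fin m → F) :=
  LinearEquiv.ofLinearMap (Matrix.toLin' (g : Matrix (Fin m ⊕ Fin m) (Fin m ⊕ Fin m) F))
    (Matrix.toLin' ((g⁻¹ : symplecticGroup (Fin m) F) : Matrix (Fin m ⊕ Fin m) (Fin m ⊕ Fin m) F))
    (by rw [← Matrix.toLin'_mul, ← Submonoid.coe_mul, mul_inv_cancel, Submonoid.coe_one, Matrix.toLin'_one])
    (by rw [← Matrix.toLin'_mul, ← Submonoid.coe_mul, inv_mul_cancel, Submonoid.coe_one, Matrix.toLin'_one])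

theorem toV_apply (g : symplecticGroup (Fin m) F) (v : Fin m ⊕ Fin m → F) :
    toV g v = (g : Matrix (Fin m ⊕ Fin m) (Fin m ⊕ Fin m) F) *ᵥ v := rfl

theorem entry_eq_form (c : Matrix (Fin m ⊕ Fin m) (Fin m ⊕ Fin m) F) (M : Matrix (Fin m ⊕ Fin m) (Fin m ⊕ Fin m) F)
    (a b : Fin m ⊕ Fin m) :
    (cᵀ * J (Fin m) F * (M * c)) a b = stdForm F m (fun r => c r a) (M *ᵥ fun r => c r b) := by
  rw [stdForm_apply, Matrix.mulVec_mulVec, Matrix.mul_assoc, ← Matrix.mul_assoc (J (Fin m) F)]
  simp only [Matrix.mul_apply, transpose_apply, dotProduct, Matrix.mulVec]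

theorem iso_std (g : symplecticGroup (Fin m) F) : Iso (stdForm F m) (toV g) where
  alt v := by
    rw [stdForm_apply, J, dotProduct, Fintype.sum_sum_type]
    simp [Matrix.mulVec, dotProduct, Matrix.fromBlocks, Matrix.one_apply, mul_comm]
  sep v h := by
    funext i
    have := h (-J (Fin m) F *ᵥ Pi.single i 1)
    rwa [stdForm_apply, Matrix.mulVec_mulVec, Matrix.mul_neg, J_squared, neg_neg, Matrix.one_mulVec,
      dotProduct_single, mul_one] at this
  iso v w := by
    rw [toV_apply, toV_apply, stdForm_apply, stdForm_apply, Matrix.mulVec_mulVec, Matrix.dotProduct_mulVec,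
      Matrix.vecMul_mulVec, ← Matrix.mul_assoc, SymplecticGroup.mem_iff'.1 g.2, ← Matrix.dotProduct_mulVec]

/-- The adapted frame. -/
theorem exists_frame (g : symplecticGroup (Fin m) F) :
    ∃ (c : symplecticGroup (Fin m) F) (A B C D G : Matrix (Fin m) (Fin m) F) (π ε : Fin m → F),
      ((c⁻¹ * g * c : symplecticGroup (Fin m) F) : Matrix (Fin m ⊕ Fin m) (Fin m ⊕ Fin m) F) = fromBlocks A B C D ∧
      Cᵀ = C ∧ Gᵀ = G ∧ C * G = diagonal π ∧ G * C = diagonal π ∧ C * diagonal π = C ∧
      (∀ i, π i = 0 ∨ π i = 1) ∧ (∀ i, ε i = 1 ∨ ε i = -1) ∧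
      (∀ i, π i = 0 → ∀ k, A k i = if k = i then ε i else 0) ∧
      (∀ δ : Fin m → F, (∀ i, δ i = 1 ∨ δ i = -1) → diagonal δ * G = G * diagonal δ) ∧
      ((∀ i, π i = 0) → g * g = 1 ∧ ((2 : F) = 0 → g = 1)) := by
  classical
  set B₀ := stdForm F m with hB₀
  set T := toV g
  have hI : Iso B₀ T := iso_std g
  have hND : ND B₀ ⊤ := fun u _ h => hI.sep u fun w => h w Submodule.mem_top
  obtain ⟨L, hL⟩ := exists_outL hI ⊤ (fun _ _ => Submodule.mem_top) hND
  have hdimL : Module.finrank F L = m := by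
    have hnd : B₀.Nondegenerate := ⟨hI.sep, fun v h => hI.sep v fun w => hI.swap (h w)⟩
    have hrefl : B₀.IsRefl := fun v w h => hI.swap h
    have h1 := LinearMap.BilinForm.finrank_orthogonal hnd L
    have h2 : B₀.orthogonal L = L := le_antisymm (fun u hu => hL.max u Submodule.mem_top hu)
      (fun u hu l hl => hL.isot l hl u hu)
    rw [h2, Module.finrank_pi, Fintype.card_sum, Fintype.card_fin] at h1
    omega
  obtain ⟨r, d, e₀, ε₀, Gd, hli₀, heL₀, hrd, hsym₀, hε₀, hGd, hGdu, hGdiag, hd0⟩ := exists_lag_basis hI hL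
  let σ : Fin r ⊕ Fin d ≃ Fin m := finSumFinEquiv.trans (finCongr (hrd.trans hdimL))
  let e : Fin m → (Fin m ⊕ Fin m → F) := e₀ ∘ σ.symm
  have hli : LinearIndependent F e := hli₀.comp _ σ.symm.injective
  have heL : ∀ i, e i ∈ L := fun i => heL₀ _
  -- the dual vectors
  have hinj : LinearMap.ker (Fintype.linearCombination F e) = ⊥ :=
    LinearMap.ker_eq_bot.2 (linearIndependent_iff_injective_fintypeLinearCombination.1 hli)
  obtain ⟨ψ, hψ⟩ := LinearMap.exists_leftInverse_of_injective (Fintype.linearCombination F e) hinj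
  have hψe : ∀ i, ψ (e i) = Pi.single i 1 := fun i => by
    have := LinearMap.congr_fun hψ (Pi.single i 1)
    simpa [Fintype.linearCombination_apply_single] using this
  have hf : ∀ j : Fin m, ∃ f, ∀ i, B₀ (e i) f = if i = j then -1 else 0 := fun j => by
    obtain ⟨f, -, hf⟩ := exists_dual_of_ND hND (-((LinearMap.proj j).comp ψ))
    refine ⟨f, fun i => ?_⟩
    rw [hf _ Submodule.mem_top, LinearMap.neg_apply, LinearMap.comp_apply, hψe, LinearMap.proj_apply]
    by_cases h : i = j
    · simp [h]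
    · simp [h, Ne.symm h]
  choose f₁ hf₁ using hf
  let X : Fin m → Fin m → F := fun i j => if i < j then -B₀ (f₁ i) (f₁ j) else 0
  let f : Fin m → (Fin m ⊕ Fin m → F) := fun j => f₁ j + ∑ k, X k j • e k
  have hee : ∀ i j, B₀ (e i) (e j) = 0 := fun i j => hL.isot _ (heL i) _ (heL j)
  have hfe₁ : ∀ i j, B₀ (f₁ i) (e j) = if i = j then 1 else 0 := fun i j => by
    rw [hI.skew, hf₁]
    by_cases h : i = j
    · subst h; simp
    · simp [h, Ne.symm h]
  have hef : ∀ i j, B₀ (e i) (f j) = if i = j then -1 else 0 := fun i j => by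
    simp [f, map_sum, hee, hf₁]
  have hff : ∀ i j, B₀ (f i) (f j) = 0 := fun i j => by
    simp only [f, map_add, map_sum, map_smul, LinearMap.add_apply, LinearMap.sum_apply, LinearMap.smul_apply,
      smul_eq_mul, hee, hf₁, hfe₁, mul_zero, Finset.sum_const_zero, add_zero, mul_ite, mul_one, mul_neg,
      Finset.sum_ite_eq, Finset.sum_ite_eq', Finset.mem_univ, if_true]
    simp only [X]
    rcases lt_trichotomy i j with h | h | h
    · rw [if_pos h, if_neg (not_lt.2 h.le)]; ring
    · subst h; simp [hI.alt]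
    · rw [if_neg (not_lt.2 h.le), if_pos h, hI.skew (f₁ i)]; ring
  let cm : Matrix (Fin m ⊕ Fin m) (Fin m ⊕ Fin m) F := Matrix.of fun a b => Sum.elim e f b a
  have hcol : ∀ b, (fun a => cm a b) = Sum.elim e f b := fun b => rfl
  have hcm : cmᵀ * J (Fin m) F * cm = J (Fin m) F := by
    have h := fun a b => entry_eq_form cm 1 a b
    simp only [Matrix.one_mul, Matrix.one_mulVec, hcol, ← hB₀] at h
    ext (i | i) (j | j) <;> rw [h]
    · simpa [J] using hee i j
    · by_cases hij : i = j <;> simp [hef, J, Matrix.one_apply, hij]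
    · rw [hI.skew]
      by_cases hij : j = i <;> simp [hef, J, Matrix.one_apply, hij, Ne.symm]
    · simpa [J] using hff i j
  let c : symplecticGroup (Fin m) F := ⟨cm, SymplecticGroup.mem_iff'.2 hcm⟩
  set g' : symplecticGroup (Fin m) F := c⁻¹ * g * c with hg'
  have hJ : ∀ a b, (J (Fin m) F * (g' : Matrix (Fin m ⊕ Fin m) (Fin m ⊕ Fin m) F)) a b =
      B₀ (Sum.elim e f a) (T (Sum.elim e f b)) := by
    have h0 : cmᵀ * J (Fin m) F * ((g : Matrix (Fin m ⊕ Fin m) (Fin m ⊕ Fin m) F) * cm) =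
        J (Fin m) F * (g' : Matrix (Fin m ⊕ Fin m) (Fin m ⊕ Fin m) F) := by
      have h1 : (g : Matrix (Fin m ⊕ Fin m) (Fin m ⊕ Fin m) F) * cm =
          cm * (g' : Matrix (Fin m ⊕ Fin m) (Fin m ⊕ Fin m) F) := by
        have e : g * c = c * g' := by rw [hg', ← mul_assoc, ← mul_assoc, mul_inv_cancel, one_mul]
        exact congrArg Subtype.val e
      rw [h1, ← Matrix.mul_assoc, hcm]
    intro a b
    rw [← h0, entry_eq_form, hcol, hcol]
    rfl
  obtain ⟨A, Bm, C, D, hblocks⟩ : ∃ A B C D, (g' : Matrix (Fin m ⊕ Fin m) (Fin m ⊕ Fin m) F) = fromBlocks A B C D :=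
    ⟨_, _, _, _, (fromBlocks_toBlocks _).symm⟩
  have hA : ∀ k i, A k i = B₀ (f k) (T (e i)) := fun k i => by
    have := hJ (.inr k) (.inl i)
    rw [hblocks, J, fromBlocks_multiply] at this
    simpa using this
  have hC : ∀ k i, C k i = B₀ (T (e i)) (e k) := fun k i => by
    have := hJ (.inl k) (.inl i)
    rw [hblocks, J, fromBlocks_multiply] at this
    rw [hI.skew]
    simp at this
    linear_combination -this
  let π : Fin m → F := fun i => Sum.elim (fun _ => 0) (fun _ => 1) (σ.symm i)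
  let ε : Fin m → F := fun i => Sum.elim ε₀ (fun _ => 1) (σ.symm i)
  let C₀ : Matrix (Fin r ⊕ Fin d) (Fin r ⊕ Fin d) F := fromBlocks 0 0 0 Gd
  have hGs : Gdᵀ = Gd := by ext i j; rw [transpose_apply, hGd, hGd, hsym₀]
  have hC₀ : C = C₀.reindex σ σ := by
    ext k i
    obtain ⟨k, rfl⟩ := σ.surjective k
    obtain ⟨i, rfl⟩ := σ.surjective i
    simp only [hC, e, Function.comp_apply, Equiv.symm_apply_apply, reindex_apply, submatrix_apply]
    rcases k with k | k <;> rcases i with i | i
    · simp [C₀, (hε₀ i).2, hL.isot _ (heL₀ _) _ (heL₀ _)]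
    · rw [hsym₀]; simp [C₀, (hε₀ k).2, hL.isot _ (heL₀ _) _ (heL₀ _)]
    · simp [C₀, (hε₀ i).2, hL.isot _ (heL₀ _) _ (heL₀ _)]
    · rw [hsym₀]; simp [C₀, hGd]
  have hπ : (diagonal π : Matrix (Fin m) (Fin m) F) =
      (fromBlocks 0 0 0 (1 : Matrix (Fin d) (Fin d) F) : Matrix (Fin r ⊕ Fin d) (Fin r ⊕ Fin d) F).reindex σ σ := by
    ext k i
    obtain ⟨k, rfl⟩ := σ.surjective k
    obtain ⟨i, rfl⟩ := σ.surjective i
    rcases k with k | k <;> rcases i with i | i <;> simp [π, Matrix.diagonal_apply, Matrix.one_apply]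
  refine ⟨c, A, Bm, C, D, (fromBlocks 0 0 0 Gd⁻¹ : Matrix (Fin r ⊕ Fin d) (Fin r ⊕ Fin d) F).reindex σ σ, π, ε,
    hblocks, ?_, ?_, ?_, ?_, ?_, fun i => ?_, fun i => ?_, fun i hi k => ?_, fun δ hδ => ?_, fun h0 => ?_⟩
  · rw [hC₀]; simp [C₀, fromBlocks_transpose, hGs]
  · simp [fromBlocks_transpose, Matrix.transpose_nonsing_inv, hGs]
  · rw [hC₀, hπ]
    simp [C₀, submatrix_mul_equiv, fromBlocks_multiply, Matrix.mul_nonsing_inv _ hGdu]
  · rw [hC₀, hπ]
    simp [C₀, submatrix_mul_equiv, fromBlocks_multiply, Matrix.nonsing_inv_mul _ hGdu]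
  · rw [hC₀, hπ]
    simp [C₀, submatrix_mul_equiv, fromBlocks_multiply]
  · rcases h : σ.symm i with j | j <;> simp [π, h]
  · rcases h : σ.symm i with j | j
    · simpa [ε, h] using (hε₀ j).1
    · simp [ε, h]
  · rcases h : σ.symm i with j | j
    · rw [hA]
      have : e i = e₀ (.inl j) := by rw [← h]; rfl
      rw [this, (hε₀ j).2, ← this, map_smul, hI.skew, hef, smul_eq_mul]
      by_cases hki : k = i
      · subst hki; simp [ε, h]
      · simp [hki, Ne.symm hki]
    · simp [π, h] at hi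
  · rcases hGdiag with h2 | ⟨v, hv⟩
    · have : δ = fun _ => 1 := funext fun i => (hδ i).elim id fun h => by
        rw [h]; linear_combination -h2
      rw [this, Matrix.diagonal_one, Matrix.one_mul, Matrix.mul_one]
    · have hdiagG : ∃ v', (fromBlocks 0 0 0 Gd⁻¹ : Matrix (Fin r ⊕ Fin d) (Fin r ⊕ Fin d) F).reindex σ σ =
          diagonal v' := by
        refine ⟨Sum.elim (fun _ => 0) (Ring.inverse v) ∘ σ.symm, ?_⟩
        rw [hv, Matrix.inv_diagonal, reindex_apply, ← Matrix.submatrix_diagonal_equiv, ← fromBlocks_diagonal]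
        simp
      obtain ⟨v', hv'⟩ := hdiagG
      rw [hv', Matrix.diagonal_mul_diagonal, Matrix.diagonal_mul_diagonal]
      exact congrArg _ (funext fun i => mul_comm _ _)
  · have hd : d = 0 := by
      rcases Nat.eq_zero_or_pos d with h | h
      · exact h
      · have := h0 (σ (.inr ⟨0, h⟩))
        simp [π] at this
    have hsemi := hL.full (hd0 hd)
    have key : ∀ v, T (T v) = v ∧ ((2 : F) = 0 → T v = v) := fun v => by
      obtain ⟨a, b, ha, hb, rfl⟩ := hsemi v Submodule.mem_top
      refine ⟨by rw [map_add, ha, hb, map_add, ha, map_neg, hb, neg_neg], fun h2 => ?_⟩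
      have hbb : b + b = 0 := by rw [← two_smul F b, h2, zero_smul]
      rw [map_add, ha, hb, ← eq_neg_of_add_eq_zero_left hbb]
    refine ⟨Subtype.ext (Matrix.toLin'.injective (LinearMap.ext fun v => ?_)), fun h2 =>
      Subtype.ext (Matrix.toLin'.injective (LinearMap.ext fun v => ?_))⟩
    · rw [Submonoid.coe_mul, Submonoid.coe_one, Matrix.toLin'_mul, Matrix.toLin'_one]
      exact (key v).1
    · rw [Submonoid.coe_one, Matrix.toLin'_one]
      exact (key v).2 h2

end CfsgLib.SpComm
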