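import Cfsg.Agent.Lib.SpComm.Frame
import Cfsg.Agent.Lib.SpComm.Three

/-!
Every element of the symplectic group over a finite field is a commutator, outside the small exceptions.
-/

set_option autoImplicit false

namespace CfsgLib.SpComm

open Matrix Polynomial

variable {F : Type*} [Field F]

section map

variable {R : Type*} [Field R] (φ : R →+* F) {ι : Type*} [Fintype ι] [DecidableEq ι]

/-- Extension of scalars. -/
def spBase : symplecticGroup ι R →* symplecticGroup ι F :=
  MonoidHom.mk' (fun g => ⟨(g : Matrix (ι ⊕ ι) (ι ⊕ ι) R).map φ, SymplecticGroup.map_mem g.2 φ⟩)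
    fun g h => Subtype.ext (Matrix.map_mul (f := φ))

theorem AdmGood.map {A : Matrix ι ι R} (h : AdmGood A) : AdmGood (A.map φ) := by
  obtain ⟨P, Q, hP, hQ, s, t, z, h1, h2, h3, h4⟩ := h
  have hgood : ∀ {P : R[X]}, Good P → Good (P.map φ) := fun {P} hP => by
    have hr : (P.map φ).reverse = P.reverse.map φ := by
      rw [Polynomial.reverse, Polynomial.reverse, natDegree_map_eq_of_injective φ.injective, reflect_map]
    show IsCoprime (P.map φ) (P.map φ).reverse
    rw [hr]
    exact hP.map (mapRingHom φ)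
  let r : Matrix ι ι R →+* Matrix ι ι F := φ.mapMatrix
  have hae : ∀ (M : Matrix ι ι R) (f : R[X]), aeval (r M) (f.map φ) = r (aeval M f) := fun M f => by
    induction f using Polynomial.induction_on with
    | C a => simp [r, Algebra.algebraMap_eq_smul_one, RingHom.mapMatrix_apply]; ext i j; by_cases h : i = j <;> simp [h]
    | add p q hp hq => rw [Polynomial.map_add, map_add, map_add, map_add, hp, hq]
    | monomial n a ih =>
      rw [pow_succ, ← mul_assoc, Polynomial.map_mul, map_mul, map_mul, map_mul, map_X, aeval_X, aeval_X, ih]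
  have hlev : ∀ M : GL ι R, spBase φ (lev M) = lev (Units.map r.toMonoidHom M) := fun M => Subtype.ext (by
    show (fromBlocks _ _ _ _).map φ = _
    rw [fromBlocks_map, transpose_map]
    simp [lev, r])
  refine ⟨P.map φ, Q.map φ, hgood hP, hgood hQ, Units.map r.toMonoidHom s, Units.map r.toMonoidHom t,
    spBase φ z, ?_, ?_, ?_, ?_⟩
  · show r (s : Matrix ι ι R) * r (t : Matrix ι ι R) = _
    rw [← map_mul, h1]; rfl
  · show aeval (r (s : Matrix ι ι R)) (P.map φ) = 0
    rw [hae, h2, map_zero]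
  · show aeval (r (t : Matrix ι ι R)) (Q.map φ) = 0
    rw [hae, h3, map_zero]
  · rw [← hlev, ← hlev, ← map_inv, ← map_mul, ← map_mul, h4]

end map

theorem AdmGood.reindex {ι κ : Type*} [Fintype ι] [DecidableEq ι] [Fintype κ] [DecidableEq κ] {A : Matrix ι ι F}
    (h : AdmGood A) (e : ι ≃ κ) : AdmGood (A.reindex e e) := by
  obtain ⟨P, Q, hP, hQ, hA⟩ := h
  exact ⟨P, Q, hP, hQ, hA.reindex e⟩

theorem two_zero_of_card [Finite F] (h : Nat.card F = 2 ∨ Nat.card F = 4) : (2 : F) = 0 := by
  haveI := Fintype.ofFinite F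
  have h0 : ((Nat.card F : ℕ) : F) = 0 := by rw [Nat.card_eq_fintype_card]; exact FiniteField.cast_card_eq_zero F
  rcases h with h | h <;> rw [h] at h0
  · simpa using h0
  · exact mul_self_eq_zero.1 (by linear_combination (by simpa using h0 : (4 : F) = 0))

/-- The sign matrices used in the reduction. -/
theorem admGood_diag [Finite F] {m : ℕ} (hm : 1 ≤ m) (h1 : m = 1 → 4 ≤ Nat.card F)
    (h2 : m = 2 → 3 ≤ Nat.card F) (δ : Fin m → F) (hδ : ∀ i, δ i = 1 ∨ δ i = -1)
    (heven : (2 : F) ≠ 0 → Even (Nat.card {i // δ i = -1})) : AdmGood (diagonal δ) := by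
  classical
  have hq : 2 ≤ Nat.card F := Finite.one_lt_card
  by_cases hchar : (2 : F) = 0
  · have : δ = fun _ => 1 := funext fun i => (hδ i).elim id fun h => by
      rw [h]; linear_combination -hchar
    rw [this, Matrix.diagonal_one]
    by_cases h4 : 4 ≤ Nat.card F
    · obtain ⟨c, hc0, hc1⟩ : ∃ c : F, c ≠ 0 ∧ c * c ≠ 1 := by
        haveI := Fintype.ofFinite F
        by_contra hn
        push Not at hn
        have hs : (Finset.univ : Finset F) ⊆ {0, 1, -1} := fun a _ => by
          by_cases h0 : a = 0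
          · simp [h0]
          rcases mul_self_eq_one_iff.1 (hn a h0) with h | h <;> simp [h]
        have h1 := (Finset.card_le_card hs).trans Finset.card_le_three
        rw [Finset.card_univ, ← Nat.card_eq_fintype_card] at h1
        omega
      exact ⟨_, _, good_lin hc1, good_lin (by rw [← mul_inv]; exact inv_ne_one.2 hc1), adm_one_scalar _ hc0⟩
    · refine admGood_one ?_ hm
      have h3 : Nat.card F ≠ 3 := by
        intro h
        haveI := Fintype.ofFinite F
        have h0 : ((Nat.card F : ℕ) : F) = 0 := by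
          rw [Nat.card_eq_fintype_card]; exact FiniteField.cast_card_eq_zero F
        rw [h] at h0
        exact one_ne_zero (α := F) (by linear_combination (by simpa using h0 : (3 : F) = 0) - hchar)
      have hc2 : Nat.card F = 2 := by omega
      have : 3 ≤ m := by
        rcases (by omega : m = 1 ∨ m = 2 ∨ 3 ≤ m) with h | h | h
        · have := h1 h; omega
        · have := h2 h; omega
        · exact h
      rw [hc2]
      have : 2 ^ 2 ≤ 2 ^ (m - 1) := Nat.pow_le_pow_right (by norm_num) (by omega)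
      omega
  obtain ⟨k, hk⟩ := heven hchar
  have hne : (1 : F) ≠ -1 := fun h => hchar (by linear_combination h)
  set a := Nat.card {i // ¬ δ i = -1}
  let E : Fin (2 * k) ⊕ Fin a ≃ Fin m :=
    (((finCongr (by omega : 2 * k = Nat.card {i // δ i = -1})).trans (Finite.equivFin _).symm).sumCongr
      (Finite.equivFin _).symm).trans (Equiv.sumCompl fun i => δ i = -1)
  have hE : diagonal δ = (sgn k a).reindex E E := by
    apply (reindex E E).symm.injective
    rw [Equiv.symm_apply_apply]
    show (diagonal δ).submatrix E E = _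
    rw [submatrix_diagonal_equiv, sgn, ← diagonal_one, ← diagonal_one, diagonal_neg, fromBlocks_diagonal]
    refine congrArg _ (funext fun x => ?_)
    rcases x with x | x
    · simp only [Function.comp_apply, Sum.elim_inl]
      exact ((finCongr (by omega : 2 * k = Nat.card {i // δ i = -1})).trans (Finite.equivFin _).symm x).2
    · simp only [Function.comp_apply, Sum.elim_inr]
      exact (hδ _).resolve_right ((Finite.equivFin {i // ¬ δ i = -1}).symm x).2
  rw [hE]
  refine AdmGood.reindex ?_ E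
  by_cases h5 : 5 ≤ Nat.card F
  · exact admGood_sgn_big (exists_gamma h5 hchar) k a
  have h3 : Nat.card F = 3 := by
    by_contra h
    exact hchar (two_zero_of_card (by omega))
  haveI := Fintype.ofFinite F
  haveI : CharP F 3 := charP_of_card_eq_prime (by rw [← Nat.card_eq_fintype_card]; exact h3)
  have hma : 2 * k + a = m := by simpa using Fintype.card_congr E
  have hm2 : 2 ≤ m := by
    rcases (by omega : m = 1 ∨ 2 ≤ m) with h | h
    · have := h1 h; omega
    · exact h
  have := (admGood_sgn_three k a (by omega)).map (ZMod.castHom (dvd_refl 3) F)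
  convert this using 1
  simp [sgn, fromBlocks_map]
  ext i j
  by_cases h : i = j <;> simp [h]

/-- Involutions in block diagonal form. -/
theorem isComm_sign [Finite F] {m : ℕ} (M : GL (Fin m) F) (ε : Fin m → F)
    (hM : (M : Matrix (Fin m) (Fin m) F) = diagonal ε) (hε : ∀ i, ε i = 1 ∨ ε i = -1) : IsComm (lev M) := by
  classical
  obtain ⟨a, b, hab⟩ : ∃ a b : F, a * a + b * b = -1 := by
    haveI := Fintype.ofFinite F
    obtain ⟨p, hp⟩ := CharP.exists F
    haveI := Fact.mk (CharP.char_is_prime F p)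
    haveI : NeZero p := ⟨(Fact.out : p.Prime).ne_zero⟩
    obtain ⟨a, b, h⟩ := CharP.sq_add_sq F p (-1)
    exact ⟨a, b, by rw [← sq, ← sq, h]; simp⟩
  let p : Fin m → F := fun i => if ε i = -1 then 1 else 0
  let u : Fin m → F := fun i => if ε i = -1 then 0 else 1
  have hdiag : ∀ (x y z w : Fin m → F), (∀ i, x i * w i - z i * y i = 1) →
      fromBlocks (diagonal x) (diagonal y) (diagonal z) (diagonal w) ∈ symplecticGroup (Fin m) F := by
    intro x y z w h
    rw [SymplecticGroup.fromBlocks_mem_iff]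
    simp only [diagonal_transpose, diagonal_mul_diagonal]
    refine ⟨congrArg _ (funext fun i => mul_comm _ _), congrArg _ (funext fun i => mul_comm _ _), ?_⟩
    rw [diagonal_sub, ← diagonal_one]
    exact congrArg _ (funext h)
  let I : symplecticGroup (Fin m) F :=
    ⟨_, hdiag u p (fun i => -p i) u fun i => by by_cases h : ε i = -1 <;> simp [u, p, h]⟩
  let J' : symplecticGroup (Fin m) F :=
    ⟨_, hdiag (fun i => u i + a * p i) (fun i => b * p i) (fun i => b * p i) (fun i => u i - a * p i) fun i => by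
      by_cases h : ε i = -1
      · simp only [u, p, h, if_pos]; linear_combination -hab
      · simp [u, p, h]⟩
  refine ⟨I, J', ?_⟩
  have key : I * J' = lev M * (J' * I) := by
    refine Subtype.ext ?_
    have hMi : ((M⁻¹ : GL (Fin m) F) : Matrix (Fin m) (Fin m) F) = diagonal ε := by
      refine Units.inv_eq_of_mul_eq_one_right ?_
      rw [hM, diagonal_mul_diagonal, ← diagonal_one]
      exact congrArg _ (funext fun i => by rcases hε i with h | h <;> simp [h])
    simp only [Submonoid.coe_mul, I, J', lev, hMi, hM, diagonal_transpose, fromBlocks_multiply,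
      diagonal_mul_diagonal, diagonal_add, Matrix.zero_mul, add_zero, zero_add]
    congr 1 <;> refine congrArg _ (funext fun i => ?_) <;> by_cases h : ε i = -1
    all_goals first
      | (simp only [u, p, if_pos h]; rw [h]; ring1)
      | (have h1 := (hε i).resolve_right h; simp only [u, p, if_neg h]; rw [h1]; ring1)
  rw [key]
  group

theorem isComm_sp [Finite F] {m : ℕ} (hm : 1 ≤ m) (h1 : m = 1 → 4 ≤ Nat.card F)
    (h2 : m = 2 → 3 ≤ Nat.card F) (g : symplecticGroup (Fin m) F) : IsComm g := by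
  classical
  obtain ⟨c, A, B, C, D, G, π, ε, hblk, hC, hG, hCG, hGC, hCπ, hπ, hε, hA, hcomm, hfull⟩ := exists_frame g
  refine isComm_of_conj c⁻¹ ?_
  rw [inv_inv]
  obtain ⟨g', hg'⟩ : ∃ x, x = c⁻¹ * g * c := ⟨_, rfl⟩
  rw [← hg'] at hblk ⊢
  obtain ⟨hAC, hBD, hAD⟩ := SymplecticGroup.fromBlocks_mem_iff.1 (hblk ▸ g'.2)
  rw [hC] at hAC
  by_cases hall : ∀ i, π i = 0
  · obtain ⟨hgg, hg2⟩ := hfull hall
    by_cases hchar : (2 : F) = 0
    · rw [hg', hg2 hchar, mul_one, inv_mul_cancel]
      exact ⟨1, 1, by simp⟩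
    have hC0 : C = 0 := by rw [← hCπ, show π = 0 from funext hall]; simp
    have hAd : A = diagonal ε := by
      ext k i
      rw [hA i (hall i) k, diagonal_apply]
      by_cases h : k = i
      · subst h; simp
      · simp [h]
    have hee : diagonal ε * diagonal ε = (1 : Matrix (Fin m) (Fin m) F) := by
      rw [diagonal_mul_diagonal, ← diagonal_one]
      exact congrArg _ (funext fun i => by rcases hε i with h | h <;> simp [h])
    have hAA : A * A = 1 := hAd ▸ hee
    have hAt : Aᵀ = A := by rw [hAd, diagonal_transpose]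
    have hD : D = A := by
      rw [hC0, transpose_zero, Matrix.zero_mul, sub_zero, hAt] at hAD
      rw [← Matrix.one_mul D, ← hAA, Matrix.mul_assoc, hAD, Matrix.mul_one]
    let M : GL (Fin m) F := ⟨A, A, hAA, hAA⟩
    have hsq : A * B + B * A = 0 := by
      have h : ((g' * g' : symplecticGroup (Fin m) F) : Matrix (Fin m ⊕ Fin m) (Fin m ⊕ Fin m) F) = 1 := by
        rw [show g' * g' = c⁻¹ * (g * g) * c by rw [hg']; group, hgg, mul_one, inv_mul_cancel]; rfl
      rw [Submonoid.coe_mul, hblk, hD, fromBlocks_multiply, ← fromBlocks_one] at h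
      exact (fromBlocks_inj.1 h).2.1
    have hBt : Bᵀ * A = A * B := by rw [hD, hAt] at hBD; exact hBD
    set X : Matrix (Fin m) (Fin m) F := (2 : F)⁻¹ • (A * B) with hX
    have hXt : Xᵀ = X := by rw [hX, transpose_smul, transpose_mul, hAt, hBt]
    refine isComm_of_conj (upp X hXt) ?_
    have key : upp X hXt * g' = lev M * upp X hXt := by
      refine Subtype.ext ?_
      rw [Submonoid.coe_mul, Submonoid.coe_mul, hblk, hC0, hD]
      show fromBlocks 1 X 0 1 * fromBlocks A B 0 A = fromBlocks A 0 0 Aᵀ * fromBlocks 1 X 0 1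
      simp only [fromBlocks_multiply, Matrix.one_mul, Matrix.mul_one, Matrix.mul_zero, Matrix.zero_mul, add_zero,
        zero_add, hAt]
      congr 1
      have e1 : A * B * A = -B := by
        rw [Matrix.mul_assoc, show B * A = -(A * B) from eq_neg_of_add_eq_zero_right hsq, Matrix.mul_neg,
          ← Matrix.mul_assoc, hAA, Matrix.one_mul]
      rw [hX, Matrix.smul_mul, Matrix.mul_smul, e1, ← Matrix.mul_assoc, hAA, Matrix.one_mul]
      match_scalars
      field_simp
      ring
    rw [key, mul_inv_cancel_right]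
    exact isComm_sign M ε hAd hε
  push Not at hall
  obtain ⟨i₀, hi₀⟩ := hall
  -- signs with an even number of negatives
  let δ₀ : Fin m → F := fun i => if π i = 0 then ε i else 1
  obtain ⟨δ, hδ, hδπ, hδeven⟩ : ∃ δ : Fin m → F, (∀ i, δ i = 1 ∨ δ i = -1) ∧ (∀ i, π i = 0 → δ i = ε i) ∧
      ((2 : F) ≠ 0 → Even (Nat.card {i // δ i = -1})) := by
    have hδ₀ : ∀ i, δ₀ i = 1 ∨ δ₀ i = -1 := fun i => by
      by_cases h : π i = 0 <;> simp [δ₀, h, hε i]
    have hδ₀π : ∀ i, π i = 0 → δ₀ i = ε i := fun i h => by simp [δ₀, h]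
    by_cases hev : (2 : F) ≠ 0 → Even (Nat.card {i // δ₀ i = -1})
    · exact ⟨δ₀, hδ₀, hδ₀π, hev⟩
    push Not at hev
    obtain ⟨hchar, hodd⟩ := hev
    refine ⟨Function.update δ₀ i₀ (-1), fun i => ?_, fun i hi => ?_, fun _ => ?_⟩
    · by_cases h : i = i₀
      · subst h; simp
      · rw [Function.update_of_ne h]; exact hδ₀ i
    · rw [Function.update_of_ne (fun h => hi₀ (by rw [← h]; exact hi))]; exact hδ₀π i hi
    · have hne : δ₀ i₀ ≠ -1 := by
        simp only [δ₀, if_neg hi₀]
        exact fun h => hchar (by linear_combination h)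
      rw [Nat.card_eq_fintype_card, Fintype.card_subtype] at hodd ⊢
      have : (Finset.univ.filter fun i => Function.update δ₀ i₀ (-1) i = -1) =
          insert i₀ (Finset.univ.filter fun i => δ₀ i = -1) := by
        ext i
        by_cases h : i = i₀
        · subst h; simp
        · simp [h]
      rw [this, Finset.card_insert_of_notMem (by simpa using hne), Nat.even_add_one]
      exact hodd
  set Δ : Matrix (Fin m) (Fin m) F := diagonal δ with hΔ
  obtain ⟨E, hE⟩ : ∃ x, x = A - Δ := ⟨_, rfl⟩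
  have hEπ : E * diagonal π = E := by
    ext k i
    rw [mul_diagonal]
    rcases hπ i with h | h
    · rw [h, mul_zero, hE, Matrix.sub_apply, hΔ, diagonal_apply, hA i h k]
      by_cases hki : k = i
      · subst hki; simp [hδπ k h]
      · simp [hki]
    · rw [h, mul_one]
  set P : Matrix (Fin m) (Fin m) F := diagonal π with hP
  have hPt : Pᵀ = P := diagonal_transpose _
  have hΔt : Δᵀ = Δ := diagonal_transpose _
  have hΔG := hcomm δ hδ
  have hPΔ : P * Δ = Δ * P := by
    rw [hP, hΔ, diagonal_mul_diagonal, diagonal_mul_diagonal]; exact congrArg _ (funext fun i => mul_comm _ _)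
  have hGP : G * P = P * G := by
    calc G * P = G * (C * G) := by rw [hCG]
      _ = P * G := by rw [← Matrix.mul_assoc, hGC]
  obtain ⟨X, hX⟩ : ∃ x, x = E * G := ⟨_, rfl⟩
  obtain ⟨S, hS⟩ : ∃ x, x = X + Xᵀ * (1 - P) := ⟨_, rfl⟩
  have hPX : (P * X)ᵀ = P * X := by
    have e1 : P * A * G = G * (C * A) * G := by rw [← hGC]; simp only [Matrix.mul_assoc]
    have e2 : (C * A)ᵀ = C * A := by rw [transpose_mul, hC, hAC]
    have e3 : (P * A * G)ᵀ = P * A * G := by
      rw [e1, transpose_mul, transpose_mul, hG, e2, ← Matrix.mul_assoc]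
    have e4 : (P * Δ * G)ᵀ = P * Δ * G := by
      rw [transpose_mul, transpose_mul, hG, hΔt, hPt, ← Matrix.mul_assoc, ← hΔG, Matrix.mul_assoc, hGP,
        ← Matrix.mul_assoc, hPΔ]
    rw [hX, hE, Matrix.sub_mul, Matrix.mul_sub, transpose_sub, ← Matrix.mul_assoc, ← Matrix.mul_assoc, e3, e4]
  have hXP : X * P = X := by
    rw [hX, Matrix.mul_assoc, hGP, ← Matrix.mul_assoc, hEπ]
  have hSt : Sᵀ = S := by
    have e1 : Xᵀ * P = P * X := by rw [← hPX, transpose_mul, hPt]
    rw [hS, transpose_add, transpose_mul, transpose_transpose, transpose_sub, transpose_one, hPt, Matrix.sub_mul,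
      Matrix.mul_sub, Matrix.one_mul, Matrix.mul_one, e1]
    abel
  have hSC : S * C = E := by
    have hPC : P * C = C := by
      have := congrArg Matrix.transpose hCπ
      rwa [transpose_mul, hC, hPt] at this
    rw [hS, Matrix.add_mul, hX, Matrix.mul_assoc E, hGC, hEπ, Matrix.mul_assoc, Matrix.sub_mul, Matrix.one_mul,
      hPC, sub_self, Matrix.mul_zero, add_zero]
  let v := upp S hSt
  refine isComm_of_conj v⁻¹ ?_
  rw [inv_inv]
  obtain ⟨g'', hg''⟩ : ∃ x, x = v⁻¹ * g' * v := ⟨_, rfl⟩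
  rw [← hg'']
  have hvinv : ((v⁻¹ : symplecticGroup (Fin m) F) : Matrix (Fin m ⊕ Fin m) (Fin m ⊕ Fin m) F) =
      fromBlocks 1 (-S) 0 1 := by
    have : v⁻¹ = upp (-S) (by rw [transpose_neg, hSt]) := by
      refine inv_eq_of_mul_eq_one_right (Subtype.ext ?_)
      simp [v, upp, fromBlocks_multiply]
    rw [this]; rfl
  have hblk'' : ∃ B' D', (g'' : Matrix (Fin m ⊕ Fin m) (Fin m ⊕ Fin m) F) = fromBlocks Δ B' C D' := by
    refine ⟨(A - S * C) * S + (B + -S * D), C * S + D, ?_⟩
    rw [hg'', Submonoid.coe_mul, Submonoid.coe_mul, hblk, hvinv]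
    show fromBlocks 1 (-S) 0 1 * fromBlocks A B C D * fromBlocks 1 S 0 1 = _
    rw [fromBlocks_multiply, fromBlocks_multiply]
    simp only [Matrix.one_mul, Matrix.mul_one, Matrix.zero_mul, Matrix.mul_zero, add_zero, zero_add, Matrix.neg_mul,
      hSC, hE]
    congr 1 <;> abel
  obtain ⟨B', D', hb''⟩ := hblk''
  obtain ⟨hΔC, -, -⟩ := SymplecticGroup.fromBlocks_mem_iff.1 (hb'' ▸ g''.2)
  rw [hC, hΔt] at hΔC
  have hΔΔ : Δ * Δ = 1 := by
    rw [hΔ, diagonal_mul_diagonal, ← diagonal_one]
    exact congrArg _ (funext fun i => by rcases hδ i with h | h <;> simp [h])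
  let M : GL (Fin m) F := ⟨Δ, Δ, hΔΔ, hΔΔ⟩
  have hS1 : (C * Δ)ᵀ = C * Δ := by rw [transpose_mul, hC, hΔt, hΔC]
  obtain ⟨u', hu'⟩ : ∃ x, x = (low (C * Δ) hS1 * lev M)⁻¹ * g'' := ⟨_, rfl⟩
  obtain ⟨A₁, B₁, C₁, D₁, hu1⟩ : ∃ A₁ B₁ C₁ D₁,
      (u' : Matrix (Fin m ⊕ Fin m) (Fin m ⊕ Fin m) F) = fromBlocks A₁ B₁ C₁ D₁ :=
    ⟨_, _, _, _, (fromBlocks_toBlocks _).symm⟩
  have hmul : low (C * Δ) hS1 * lev M * u' = g'' := by rw [hu', mul_inv_cancel_left]
  have hmat := congrArg (fun x : symplecticGroup (Fin m) F => (x : Matrix (Fin m ⊕ Fin m) (Fin m ⊕ Fin m) F)) hmul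
  simp only [Submonoid.coe_mul, hb'', hu1] at hmat
  rw [show ((low (C * Δ) hS1 : symplecticGroup (Fin m) F) : Matrix (Fin m ⊕ Fin m) (Fin m ⊕ Fin m) F) =
      fromBlocks 1 0 (C * Δ) 1 from rfl,
    show ((lev M : symplecticGroup (Fin m) F) : Matrix (Fin m ⊕ Fin m) (Fin m ⊕ Fin m) F) = fromBlocks Δ 0 0 Δᵀ
      from rfl, hΔt, fromBlocks_multiply, fromBlocks_multiply] at hmat
  simp only [Matrix.one_mul, Matrix.mul_one, Matrix.zero_mul, Matrix.mul_zero, add_zero, zero_add,
    Matrix.mul_assoc, hΔΔ] at hmat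
  obtain ⟨e1, e2, e3, e4⟩ := fromBlocks_inj.1 hmat
  have hA1 : A₁ = 1 := by rw [← Matrix.one_mul A₁, ← hΔΔ, Matrix.mul_assoc, e1]
  have hC1 : C₁ = 0 := by
    rw [hA1, Matrix.mul_one, add_eq_left] at e3
    rw [← Matrix.one_mul C₁, ← hΔΔ, Matrix.mul_assoc, e3, Matrix.mul_zero]
  obtain ⟨-, hBD1, hAD1⟩ := SymplecticGroup.fromBlocks_mem_iff.1 (hu1 ▸ u'.2)
  rw [hA1, hC1, transpose_one, transpose_zero, Matrix.one_mul, Matrix.zero_mul, sub_zero] at hAD1
  rw [hAD1, Matrix.mul_one, transpose_one, Matrix.one_mul] at hBD1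
  obtain ⟨P', Q', hP', hQ', hAdm⟩ := admGood_diag hm h1 h2 δ hδ hδeven
  refine isComm_of_adm hAdm hP' hQ' hS1 hBD1 (M := M) rfl ?_
  rw [← hmul]
  congr 1
  refine Subtype.ext ?_
  rw [hu1, hA1, hC1, hAD1]
  rfl

end CfsgLib.SpComm
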